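import Groth.Agent.KoszLib.Sheaf
import Groth.Agent.QCohLib.Vanishing
import Groth.Agent.QCohLib.OpenRestr

/-!
# Čech cohomology of basic opens as a colimit of Koszul cohomology
-/

universe u

open CategoryTheory CategoryTheory.Limits TopologicalSpace Opposite AlgebraicGeometry

namespace KoszLib

variable {X : Scheme.{u}} [CompactSpace X] [QuasiSeparatedSpace X]
variable {r : ℕ} (g : Fin r → Γ(X, ⊤)) (F : X.Modules) [Coh.IsQCoh F]

/-- The comparison with Čech cochains. -/
noncomputable def eCech (q : ℕ) :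
    (CechLib.cx (Uf g) F.presheaf).X q ≃+ (sheafSys F g).CQ (q + 1) :=
  (CechLib.cochainEquiv (Uf g) F.presheaf q).trans
    { toFun := fun c J => c (ULift.up ∘ J)
      invFun := fun c J => c (ULift.down ∘ J)
      left_inv := fun _ => rfl
      right_inv := fun _ => rfl
      map_add' := fun _ _ => rfl }

omit [CompactSpace X] [QuasiSeparatedSpace X] in
theorem neg_one_pow_smul {V : X.Opens} (k : ℕ) (y : Sec F V) :
    ((-1 : Γ(X, ⊤)) ^ k) • y = ((-1 : ℤ) ^ k) • y := by
  rw [← Int.cast_smul_eq_zsmul Γ(X, ⊤)]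
  simp

theorem eCech_d (q : ℕ) (c : (CechLib.cx (Uf g) F.presheaf).X q) :
    eCech g F (q + 1) ((CechLib.cx (Uf g) F.presheaf).d q (q + 1) c) =
      (sheafSys F g).dQ (q + 1) (eCech g F q c) := by
  funext J
  refine (congr_fun (CechLib.ev_d (Uf g) F.presheaf q c) (ULift.up ∘ J)).trans ?_
  rw [CechLib.dd_apply, LimSys.dQ_apply]
  refine Finset.sum_congr rfl fun k _ => ?_
  rw [neg_one_pow_smul]
  rfl

/-- A cocycle as a Čech cycle. -/
noncomputable def toCech (q : ℕ) :
    (sheafSys F g).ZQ (q + 2) →+ ((CechLib.cx (Uf g) F.presheaf).cycles (q + 1) : Type u) :=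
  ((CechLib.cx (Uf g) F.presheaf).liftCycles
    (A := AddCommGrpCat.of ((sheafSys F g).ZQ (q + 2)))
    (AddCommGrpCat.ofHom ((eCech g F (q + 1)).symm.toAddMonoidHom.comp
      ((sheafSys F g).ZQ (q + 2)).subtype.toAddMonoidHom)) (q + 2) (by simp) (by
      refine AddCommGrpCat.hom_ext (AddMonoidHom.ext fun c => ?_)
      refine (eCech g F (q + 2)).injective ?_
      refine (eCech_d g F (q + 1) _).trans ?_
      refine (congr_arg _ ((eCech g F (q + 1)).apply_symm_apply c.1)).trans ?_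
      exact (LinearMap.mem_ker.mp c.2).trans (map_zero (eCech g F (q + 2))).symm)).hom

theorem iCycles_toCech (q : ℕ) (c : (sheafSys F g).ZQ (q + 2)) :
    eCech g F (q + 1)
      ((CechLib.cx (Uf g) F.presheaf).iCycles (q + 1) (toCech g F q c)) = c.1 :=
  (congr_arg (eCech g F (q + 1)) (ConcreteCategory.congr_hom
    (HomologicalComplex.liftCycles_i (CechLib.cx (Uf g) F.presheaf)
      (A := AddCommGrpCat.of ((sheafSys F g).ZQ (q + 2)))
    (AddCommGrpCat.ofHom ((eCech g F (q + 1)).symm.toAddMonoidHom.comp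
      ((sheafSys F g).ZQ (q + 2)).subtype.toAddMonoidHom)) (q + 2) (by simp) (by
      refine AddCommGrpCat.hom_ext (AddMonoidHom.ext fun c => ?_)
      refine (eCech g F (q + 2)).injective ?_
      refine (eCech_d g F (q + 1) _).trans ?_
      refine (congr_arg _ ((eCech g F (q + 1)).apply_symm_apply c.1)).trans ?_
      exact (LinearMap.mem_ker.mp c.2).trans (map_zero (eCech g F (q + 2))).symm)) c)).trans
    ((eCech g F (q + 1)).apply_symm_apply c.1)

theorem cech_iCycles_injective (q : ℕ) :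
    Function.Injective ((CechLib.cx (Uf g) F.presheaf).iCycles q) :=
  (AddCommGrpCat.mono_iff_injective _).mp inferInstance

/-- The class of a cocycle. -/
noncomputable def toCechH (q : ℕ) :
    (sheafSys F g).ZQ (q + 2) →+ ((CechLib.cx (Uf g) F.presheaf).homology (q + 1) : Type u) :=
  ((CechLib.cx (Uf g) F.presheaf).homologyπ (q + 1)).hom.comp (toCech g F q)

theorem toCechH_eq_zero_iff (q : ℕ) (c : (sheafSys F g).ZQ (q + 2)) :
    toCechH g F q c = 0 ↔ c.1 ∈ (sheafSys F g).BQ (q + 2) := by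
  let K := CechLib.cx (Uf g) F.presheaf
  have hex := ShortComplex.exact_of_g_is_cokernel
    (ShortComplex.mk (K.toCycles q (q + 1)) (K.homologyπ (q + 1))
      (K.toCycles_comp_homologyπ q (q + 1)))
    (K.homologyIsCokernel q (q + 1) (by simp))
  have hi : ∀ x, eCech g F (q + 1) (K.iCycles (q + 1) (K.toCycles q (q + 1) x)) =
      (sheafSys F g).dQ (q + 1) (eCech g F q x) := fun x =>
    (congr_arg _ (ConcreteCategory.congr_hom (K.toCycles_i q (q + 1)) x)).trans (eCech_d g F q x)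
  constructor
  · intro h
    obtain ⟨x, hx⟩ := (ShortComplex.ab_exact_iff _).mp hex _ h
    refine ⟨eCech g F q x, ?_⟩
    rw [← hi, ← iCycles_toCech g F q c]
    exact congr_arg _ (congr_arg _ hx)
  · rintro ⟨x, hx⟩
    have : toCech g F q c = K.toCycles q (q + 1) ((eCech g F q).symm x) := by
      refine cech_iCycles_injective g F (q + 1) ((eCech g F (q + 1)).injective ?_)
      rw [iCycles_toCech, hi, AddEquiv.apply_symm_apply, hx]
    change K.homologyπ (q + 1) (toCech g F q c) = 0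
    rw [this]
    exact ConcreteCategory.congr_hom (K.toCycles_comp_homologyπ q (q + 1)) _

theorem toCechH_surjective (q : ℕ) : Function.Surjective (toCechH g F q) := fun y => by
  obtain ⟨z, rfl⟩ := (AddCommGrpCat.epi_iff_surjective
    ((CechLib.cx (Uf g) F.presheaf).homologyπ (q + 1))).mp inferInstance y
  refine ⟨⟨eCech g F (q + 1) ((CechLib.cx (Uf g) F.presheaf).iCycles (q + 1) z),
    LinearMap.mem_ker.mpr ?_⟩, ?_⟩
  · rw [← eCech_d]
    exact (congr_arg _ (ConcreteCategory.congr_hom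
      ((CechLib.cx (Uf g) F.presheaf).iCycles_d (q + 1) (q + 2)) z)).trans (map_zero _)
  · refine congr_arg ((CechLib.cx (Uf g) F.presheaf).homologyπ (q + 1)).hom
      (cech_iCycles_injective g F (q + 1) ((eCech g F (q + 1)).injective ?_))
    exact iCycles_toCech g F q _

/-- Čech cohomology is the cohomology of the family, one degree up. -/
noncomputable def cechEquiv (q : ℕ) :
    ((CechLib.cx (Uf g) F.presheaf).homology (q + 1) : Type u) ≃+ (sheafSys F g).HQ (q + 2) :=
  ((QuotientAddGroup.quotientAddEquivOfEq (show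
      (((sheafSys F g).BQ (q + 2)).comap ((sheafSys F g).ZQ (q + 2)).subtype).toAddSubgroup =
        (toCechH g F q).ker by
      ext c; exact (toCechH_eq_zero_iff g F q c).symm)).trans
    (QuotientAddGroup.quotientKerEquivOfSurjective _ (toCechH_surjective g F q))).symm

theorem nonempty_cechH_HQ (p : ℕ) (hp : 1 ≤ p) :
    Nonempty (↑(CohB1.cechH (Uf g) F p) ≃+ (sheafSys F g).HQ (p + 1)) := by
  obtain ⟨q, rfl⟩ := Nat.exists_eq_add_of_le' hp
  exact ⟨cechEquiv g F q⟩

omit [CompactSpace X] [QuasiSeparatedSpace X] in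
theorem iSup_Uf : ⨆ i, Uf g i = ⨆ i : Fin r, X.basicOpen (g i) :=
  le_antisymm (iSup_le fun i => le_iSup_of_le i.down le_rfl)
    (iSup_le fun i => le_iSup_of_le ⟨i⟩ le_rfl)

omit [CompactSpace X] [QuasiSeparatedSpace X] in
theorem acyc (haff : ∀ i : Fin r, IsAffineOpen (X.basicOpen (g i))) :
    CechLib.Acyc (Uf g) ((QCohLib.toAbF X).obj F) := by
  intro n J q
  refine QCohLib.subsingleton_HU_affine F _ ?_
  have h : CechLib.cap (Uf g) J = X.basicOpen (X.presheaf.map
      (homOfLE (le_top : X.basicOpen (g (J 0).down) ≤ ⊤)).op (prodT g (ULift.down ∘ J))) := by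
    rw [X.basicOpen_res, ← capT_eq g (ULift.down ∘ J)]
    exact (inf_eq_right.mpr (CechLib.cap_le (Uf g) J 0)).symm
  rw [h]
  exact (haff _).basicOpen _

theorem nonempty_HU_HQ (haff : ∀ i : Fin r, IsAffineOpen (X.basicOpen (g i))) (q : ℕ)
    (hq : 1 ≤ q) :
    Nonempty (QCohLib.HU ((QCohLib.toAbF X).obj F) q (⨆ i, Uf g i) ≃+
      (sheafSys F g).HQ (q + 1)) := by
  obtain ⟨e1⟩ := CechLib.nonempty_homology_equiv (Uf g) q ((QCohLib.toAbF X).obj F) (acyc g F haff)
  obtain ⟨e2⟩ := nonempty_cechH_HQ g F q hq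
  exact ⟨e1.symm.trans e2⟩

/-- Sections over the union, as `1`-cocycles. -/
noncomputable def glue : Γ(F, ⨆ i, Uf g i) →+ (sheafSys F g).CQ 1 :=
  (eCech g F 0).toAddMonoidHom.comp (CechLib.rho (Uf g) ((QCohLib.toAbF X).obj F)).hom

theorem glue_apply (s : Γ(F, ⨆ i, Uf g i)) (J : Fin 1 → Fin r) :
    glue g F s J = F.presheaf.map (homOfLE (CechLib.cap_le_iSup (Uf g) (ULift.up ∘ J))).op s :=
  CechLib.cochainEquiv_rho (Uf g) ((QCohLib.toAbF X).obj F) s (ULift.up ∘ J)

theorem glue_injective : Function.Injective (glue g F) :=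
  (eCech g F 0).injective.comp (CechLib.rho_injective (Uf g) ((QCohLib.toAbF X).obj F))

theorem mem_ZQ_one (y : (sheafSys F g).CQ 1) :
    y ∈ (sheafSys F g).ZQ 1 ↔ y ∈ (glue g F).range := by
  constructor
  · intro hy
    obtain ⟨c, rfl⟩ := (eCech g F 0).surjective y
    obtain ⟨s, hs⟩ := CechLib.exists_rho_eq (Uf g) ((QCohLib.toAbF X).obj F)
      (CechLib.cochainEquiv (Uf g) F.presheaf 0 c) (by
        refine (CechLib.ev_d (Uf g) F.presheaf 0 c).symm.trans ?_
        refine (congr_arg _ ?_).trans (map_zero (CechLib.cochainEquiv (Uf g) F.presheaf 1))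
        refine (eCech g F 1).injective ?_
        rw [eCech_d, map_zero]
        exact LinearMap.mem_ker.mp hy)
    exact ⟨s, congr_arg (fun c J => c (ULift.up ∘ J)) hs⟩
  · rintro ⟨s, rfl⟩
    refine LinearMap.mem_ker.mpr ((eCech_d g F 0 _).symm.trans ?_)
    exact (congr_arg _ (ConcreteCategory.congr_hom
      (CechLib.rho_d (Uf g) ((QCohLib.toAbF X).obj F)) s)).trans (map_zero _)

/-- Global sections as `0`-cochains. -/
noncomputable def topEquiv : Γ(F, ⊤) ≃+ (sheafSys F g).CQ 0 where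
  toFun x _ := secRes F le_top (ofTop F x)
  invFun c := secRes F (le_iInf fun a => a.elim0) (c Fin.elim0)
  left_inv x := (secRes_secRes F _ _ _).trans (secRes_self F (ofTop F x))
  right_inv c := funext fun J => by
    obtain rfl : J = Fin.elim0 := Subsingleton.elim _ _
    exact (secRes_secRes F _ _ _).trans (secRes_self F _)
  map_add' x y := funext fun _ => map_add ((secRes F le_top).comp (ofTop F)) x y

/-- The restriction to the union. -/
noncomputable abbrev restr : Γ(F, ⊤) →+ Γ(F, ⨆ i, Uf g i) :=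
  (F.presheaf.map (homOfLE (le_top : (⨆ i, Uf g i) ≤ ⊤)).op).hom

theorem dQ_topEquiv (x : Γ(F, ⊤)) :
    (sheafSys F g).dQ 0 (topEquiv g F x) = glue g F (restr g F x) := by
  funext J
  rw [LimSys.dQ_apply, Fin.sum_univ_succ, Fin.sum_univ_zero, add_zero, glue_apply]
  simp only [Fin.val_zero, pow_zero, one_smul]
  exact (secRes_secRes F _ _ _).trans (CechLib.rs_rs F.presheaf _ _ x).symm

theorem nonempty_ker_HQ :
    Nonempty ((restr g F).ker ≃+ (sheafSys F g).HQ 0) := by
  let φ : (restr g F).ker →+ (sheafSys F g).HQ 0 :=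
    (Submodule.mkQ _).toAddMonoidHom.comp
      (((topEquiv g F).toAddMonoidHom.comp (restr g F).ker.subtype).codRestrict
        ((sheafSys F g).ZQ 0).toAddSubgroup fun x => LinearMap.mem_ker.mpr (by
          refine (dQ_topEquiv g F x.1).trans ?_
          rw [show restr g F x.1 = 0 from x.2, map_zero]))
  refine ⟨AddEquiv.ofBijective φ ⟨?_, ?_⟩⟩
  · refine (injective_iff_map_eq_zero _).mpr fun x hx => ?_
    refine Subtype.ext ((topEquiv g F).injective ?_)
    have hb := (Submodule.Quotient.mk_eq_zero (((sheafSys F g).BQ 0).comap ((sheafSys F g).ZQ 0).subtype)).mp hx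
    exact (show topEquiv g F x.1 = 0 from hb).trans (map_zero _).symm
  · intro y
    obtain ⟨⟨c, hc⟩, rfl⟩ := Submodule.Quotient.mk_surjective _ y
    obtain ⟨x, rfl⟩ := (topEquiv g F).surjective c
    exact ⟨⟨x, glue_injective g F (((dQ_topEquiv g F x).symm.trans
      (LinearMap.mem_ker.mp hc)).trans (map_zero _).symm)⟩, rfl⟩

theorem nonempty_coker_HQ :
    Nonempty (Γ(F, ⨆ i, Uf g i) ⧸ (restr g F).range ≃+ (sheafSys F g).HQ 1) := by
  let φ : Γ(F, ⨆ i, Uf g i) →+ (sheafSys F g).HQ 1 :=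
    (Submodule.mkQ _).toAddMonoidHom.comp
      ((glue g F).codRestrict ((sheafSys F g).ZQ 1).toAddSubgroup fun s =>
        (mem_ZQ_one g F _).mpr ⟨s, rfl⟩)
  have hsurj : Function.Surjective φ := fun y => by
    obtain ⟨⟨c, hc⟩, rfl⟩ := Submodule.Quotient.mk_surjective _ y
    obtain ⟨s, rfl⟩ := (mem_ZQ_one g F c).mp hc
    exact ⟨s, rfl⟩
  have hker : (restr g F).range = φ.ker := by
    ext s
    constructor
    · rintro ⟨x, rfl⟩
      exact (Submodule.Quotient.mk_eq_zero _).mpr ⟨topEquiv g F x, dQ_topEquiv g F x⟩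
    · intro hs
      obtain ⟨c, hc⟩ := (Submodule.Quotient.mk_eq_zero _).mp hs
      obtain ⟨x, rfl⟩ := (topEquiv g F).surjective c
      exact ⟨x, glue_injective g F ((dQ_topEquiv g F x).symm.trans hc)⟩
  exact ⟨((QuotientAddGroup.quotientAddEquivOfEq hker).trans
    (QuotientAddGroup.quotientKerEquivOfSurjective φ hsurj))⟩

/-! ### Lists of global functions -/

variable (fs : List Γ(X, ⊤))

/-- The colimit of the Koszul cohomology of global sections. -/
noncomputable def limEquiv (p : ℕ) :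
    CohIII.koszulHLim fs (ModuleCat.of Γ(X, ⊤) (F.val.obj (op ⊤))) p ≃+
      (sheafSys F fs.get).HQ p :=
  koszulLimEquiv fs (ModuleCat.of Γ(X, ⊤) (F.val.obj (op ⊤))) (sheafSys F fs.get) p

theorem nonempty_cechH_equiv (p : ℕ) (hp : 1 ≤ p) :
    Nonempty (↑(CohB1.cechH (Uf fs.get) F p) ≃+
      CohIII.koszulHLim fs (ModuleCat.of Γ(X, ⊤) (F.val.obj (op ⊤))) (p + 1)) :=
  (nonempty_cechH_HQ fs.get F p hp).map (·.trans (limEquiv F fs _).symm)

theorem nonempty_HHon_equiv (haff : ∀ i : Fin fs.length, IsAffineOpen (X.basicOpen (fs.get i)))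
    (q : ℕ) (hq : 1 ≤ q) :
    Nonempty (Coh.HHon X F (⨆ i : Fin fs.length, X.basicOpen (fs.get i)) q ≃+
      CohIII.koszulHLim fs (ModuleCat.of Γ(X, ⊤) (F.val.obj (op ⊤))) (q + 1)) := by
  obtain ⟨e2⟩ := nonempty_HU_HQ fs.get F haff q hq
  obtain ⟨e3⟩ := QCohLib.nonempty_HU_restrict
    (⨆ i : Fin fs.length, X.basicOpen (fs.get i)).ι F q ⊤
  rw [Scheme.Opens.ι_image_top, ← iSup_Uf] at e3
  rw [← iSup_Uf]
  exact ⟨(((QCohLib.hEquiv _ q).trans e3).trans e2).trans (limEquiv F fs (q + 1)).symm⟩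

theorem nonempty_ker_equiv :
    Nonempty ((restr fs.get F).ker ≃+
      CohIII.koszulHLim fs (ModuleCat.of Γ(X, ⊤) (F.val.obj (op ⊤))) 0) :=
  (nonempty_ker_HQ fs.get F).map (·.trans (limEquiv F fs 0).symm)

theorem nonempty_coker_equiv :
    Nonempty (Γ(F, ⨆ i, Uf fs.get i) ⧸ (restr fs.get F).range ≃+
      CohIII.koszulHLim fs (ModuleCat.of Γ(X, ⊤) (F.val.obj (op ⊤))) 1) :=
  (nonempty_coker_HQ fs.get F).map (·.trans (limEquiv F fs 1).symm)

end KoszLib
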