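import Groth.Prelude.Def_LocCohZ
import Groth.Prelude.Def_Wider
import Groth.Agent.KoszLib.Cech

/-!
# The affine case: Koszul colimits and cohomology with supports
-/

universe u

open CategoryTheory CategoryTheory.Limits TopologicalSpace Opposite AlgebraicGeometry
open CategoryTheory.Abelian

namespace KoszLib

section Comap

variable {A A' : Type u} [CommRing A] [CommRing A']

/-- A module over `A'` seen over `A`. -/
def Res (_σ : A →+* A') (N : Type u) : Type u := N

instance (σ : A →+* A') (N : Type u) [h : AddCommGroup N] : AddCommGroup (Res σ N) := h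

noncomputable instance (σ : A →+* A') (N : Type u) [AddCommGroup N] [h : Module A' N] :
    Module A (Res σ N) :=
  show Module A N from Module.compHom N σ

theorem res_smul_def (σ : A →+* A') {N : Type u} [AddCommGroup N] [Module A' N] (a : A)
    (x : Res σ N) : a • x = @HSMul.hSMul A' N N _ (σ a) x := rfl

variable (σ : A →+* A') {M M' : Type u} [AddCommGroup M] [Module A M] [AddCommGroup M']
  [Module A' M'] (e : M ≃+ M') (he : ∀ a x, e (a • x) = σ a • e x) {r : ℕ} {f : Fin r → A}
  {g : Fin r → A'} (hg : ∀ i, g i = σ (f i)) {Q : ∀ p, (Fin p → Fin r) → Type u}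
  [∀ p J, AddCommGroup (Q p J)] [∀ p J, Module A' (Q p J)] (S : LimSys g M' Q)

include hg in
theorem map_prod_eq (s : Finset (Fin r)) : σ (∏ a ∈ s, f a) = ∏ a ∈ s, g a := by
  simp only [map_prod, hg]

/-- A localised family seen over another ring. -/
noncomputable def comap : LimSys f M (fun p J => Res σ (Q p J)) where
  ψ n _ J :=
    { toFun := fun x => (S.ψ n J (e x) : Q _ J)
      map_add' := fun x y => by
        change S.ψ n J (e (x + y)) = S.ψ n J (e x) + S.ψ n J (e y)
        rw [map_add, map_add]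
      map_smul' := fun a x => by
        rw [RingHom.id_apply]
        change S.ψ n J (e (a • x)) = σ a • S.ψ n J (e x)
        rw [he, map_smul] }
  rs J k :=
    { toFun := fun x => (S.rs J k x : Q _ J)
      map_add' := fun x y => map_add (S.rs J k) x y
      map_smul' := fun a x => by
        rw [RingHom.id_apply]
        exact (S.rs J k).map_smul (σ a) (show Q _ _ from x) }
  surj J y := by
    obtain ⟨n, x, hx⟩ := S.surj J y
    exact ⟨n, e.symm x, (congr_arg (S.ψ n J) (e.apply_symm_apply x)).trans hx⟩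
  zero J n x h := by
    obtain ⟨k, hk⟩ := S.zero J n (e x) h
    refine ⟨k, e.injective ?_⟩
    rw [he, map_pow, map_prod_eq σ hg, hk, map_zero]
  trans J n k x := by
    change S.ψ (n + k) J (e _) = S.ψ n J (e x)
    rw [he, map_pow, map_prod_eq σ hg, S.trans]
  res J k n x := by
    change S.rs J k (S.ψ n _ (e x)) = S.ψ n J (e _)
    rw [S.res, he, map_pow]
    congr 3
    exact (map_prod_eq σ hg _).symm

theorem comap_dQ (p : ℕ) (c : S.CQ p) :
   
    @Eq (S.CQ (p + 1))
      (((comap σ e he hg S).dQ p : (comap σ e he hg S).CQ p → (comap σ e he hg S).CQ (p + 1)) c)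
      (S.dQ p c) := by
  funext J
  rw [LimSys.dQ_apply, LimSys.dQ_apply]
  refine Finset.sum_congr rfl fun k _ => ?_
  rw [res_smul_def, map_pow, map_neg, map_one]
  rfl

theorem mem_ZQ_comap (p : ℕ) (c : (comap σ e he hg S).CQ p) :
    c ∈ (comap σ e he hg S).ZQ p ↔ (show S.CQ p from c) ∈ S.ZQ p := by
  rw [LimSys.ZQ, LimSys.ZQ, LinearMap.mem_ker, LinearMap.mem_ker, ← comap_dQ σ e he hg S p c]
  rfl

/-- The cohomology does not see the change of ring. -/
noncomputable def comapHQ (p : ℕ) : (comap σ e he hg S).HQ p ≃+ S.HQ p :=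
  QuotientAddGroup.congr
    ((comap σ e he hg S).BQ p |>.comap ((comap σ e he hg S).ZQ p).subtype).toAddSubgroup
    ((S.BQ p).comap (S.ZQ p).subtype).toAddSubgroup
    { toFun := fun c => ⟨c.1, (mem_ZQ_comap σ e he hg S p c.1).mp c.2⟩
      invFun := fun c => ⟨c.1, (mem_ZQ_comap σ e he hg S p c.1).mpr c.2⟩
      left_inv := fun _ => rfl
      right_inv := fun _ => rfl
      map_add' := fun _ _ => rfl }
    (by
      ext c
      constructor
      · rintro ⟨x, hx, rfl⟩
        cases p with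
        | zero => exact hx
        | succ p =>
          obtain ⟨y, hy⟩ := hx
          exact ⟨y, (comap_dQ σ e he hg S p y).symm.trans hy⟩
      · intro hc
        refine ⟨⟨c.1, (mem_ZQ_comap σ e he hg S p c.1).mpr c.2⟩, ?_, rfl⟩
        cases p with
        | zero => exact hc
        | succ p =>
          obtain ⟨y, hy⟩ := hc
          exact ⟨y, (comap_dQ σ e he hg S p y).trans hy⟩)

end Comap

section Supports

variable {Y : Scheme.{u}} [IsAffine Y] (M : Y.Modules) (U : Y.Opens)

theorem subsingleton_ext_top [Coh.IsQCoh M] (i : ℕ) :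
    Subsingleton (Ext (LocCohZ.zqSeq (X := Y.carrier) (le_top : U ≤ ⊤)).X₂ (Coh.toAb M) (i + 1)) :=
  QCohLib.subsingleton_HU_affine M i (isAffineOpen_top Y)

theorem delta_surjective [Coh.IsQCoh M] (i : ℕ) :
    Function.Surjective (LocCohZ.delta (X := Y.carrier) (Coh.toAb M) i (le_top : U ≤ ⊤)) := by
  intro x
  have := subsingleton_ext_top M U i
  exact Ext.contravariant_sequence_exact₃ (LocCohZ.zqSeq_shortExact (X := Y.carrier) le_top) _ x
    (Subsingleton.elim _ _) (by omega)

theorem delta_injective [Coh.IsQCoh M] (i : ℕ) :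
    Function.Injective (LocCohZ.delta (X := Y.carrier) (Coh.toAb M) (i + 1) (le_top : U ≤ ⊤)) := by
  refine (injective_iff_map_eq_zero _).mpr fun x hx => ?_
  have := subsingleton_ext_top M U i
  obtain ⟨y, rfl⟩ := Ext.contravariant_sequence_exact₁
    (LocCohZ.zqSeq_shortExact (X := Y.carrier) (le_top : U ≤ ⊤)) _ x (by omega) hx
  rw [Subsingleton.elim y 0]
  exact (Ext.mk₀ (LocCohZ.zqSeq (X := Y.carrier) (le_top : U ≤ ⊤)).f).comp_zero _ _ _ _

theorem delta_zero_eq_zero_iff (x : QCohLib.HU ((QCohLib.toAbF Y).obj M) 0 U) :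
    LocCohZ.delta (X := Y.carrier) (Coh.toAb M) 0 (le_top : U ≤ ⊤) x = 0 ↔
      QCohLib.h0 x ∈ (M.presheaf.map (homOfLE (le_top : U ≤ ⊤)).op).hom.range := by
  constructor
  · intro hx
    obtain ⟨y, rfl⟩ := Ext.contravariant_sequence_exact₁
      (LocCohZ.zqSeq_shortExact (X := Y.carrier) (le_top : U ≤ ⊤)) _ x (by omega) hx
    exact ⟨QCohLib.h0 (F := (QCohLib.toAbF Y).obj M) (U := (⊤ : Y.Opens)) y,
      (QCohLib.h0_res (F := (QCohLib.toAbF Y).obj M) (homOfLE (le_top : U ≤ ⊤)) y).symm⟩
  · rintro ⟨s, hs⟩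
    obtain ⟨y, rfl⟩ := (QCohLib.h0 (F := (QCohLib.toAbF Y).obj M) (U := (⊤ : Y.Opens))).surjective s
    have : x = QCohLib.res (homOfLE (le_top : U ≤ ⊤)) y :=
      QCohLib.h0.injective (hs.symm.trans (QCohLib.h0_res _ y).symm)
    rw [this]
    exact (LocCohZ.zqSeq_shortExact (X := Y.carrier) (le_top : U ≤ ⊤)).extClass_comp_assoc y (h := by omega)

theorem nonempty_HZM_one_equiv [Coh.IsQCoh M] :
    Nonempty (Γ(M, U) ⧸ (M.presheaf.map (homOfLE (le_top : U ≤ ⊤)).op).hom.range ≃+
      LocCohZ.HZM Y M 1 U) := by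
  let φ : Γ(M, U) →+ LocCohZ.HZM Y M 1 U :=
    (LocCohZ.delta (X := Y.carrier) (Coh.toAb M) 0 (le_top : U ≤ ⊤)).comp
      (QCohLib.h0 (F := (QCohLib.toAbF Y).obj M) (U := U)).symm.toAddMonoidHom
  have hsurj : Function.Surjective φ :=
    (delta_surjective M U 0).comp (QCohLib.h0 (F := (QCohLib.toAbF Y).obj M) (U := U)).symm.surjective
  refine ⟨(QuotientAddGroup.quotientAddEquivOfEq (AddSubgroup.ext fun s => ?_)).trans
    (QuotientAddGroup.quotientKerEquivOfSurjective φ hsurj)⟩
  have := delta_zero_eq_zero_iff M U ((QCohLib.h0 (F := (QCohLib.toAbF Y).obj M) (U := U)).symm s)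
  rw [AddEquiv.apply_symm_apply] at this
  exact this.symm

end Supports

section Tilde

variable (A : Type u) [CommRing A] (M : Type u) [AddCommGroup M] [Module A M]

/-- Ring elements as global functions on the spectrum. -/
noncomputable def toΓ : A →+* Γ(Spec (CommRingCat.of A), ⊤) :=
  (Scheme.ΓSpecIso (CommRingCat.of A)).inv.hom

/-- A module is the global sections of its sheaf. -/
noncomputable def secEquiv' {R : CommRingCat.{u}} (N : ModuleCat.{u} R) :
    N ≃+ Γ(AlgebraicGeometry.tilde N, ⊤) :=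
  (asIso (tilde.toOpen N ⊤)).toLinearEquiv.toAddEquiv

theorem secEquiv'_smul {R : CommRingCat.{u}} (N : ModuleCat.{u} R) (a : R) (x : N) :
    secEquiv' N (a • x) = (Scheme.ΓSpecIso R).inv a • secEquiv' N x := by
  refine ((asIso (tilde.toOpen N ⊤)).toLinearEquiv.map_smul a x).trans ?_
  exact congrArg (fun t : Γ(Spec R, ⊤) => t • secEquiv' N x) (ρ_top (X := Spec R) ((Scheme.ΓSpecIso R).inv a))

/-- A module is the global sections of its sheaf. -/
noncomputable def secEquiv :
    M ≃+ Γ(AlgebraicGeometry.tilde (R := CommRingCat.of A) (ModuleCat.of A M), ⊤) :=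
  secEquiv' (R := CommRingCat.of A) (ModuleCat.of A M)

theorem secEquiv_smul (a : A) (x : M) :
    secEquiv A M (a • x) = toΓ A a • secEquiv A M x :=
  secEquiv'_smul (R := CommRingCat.of A) (ModuleCat.of A M) a x

variable (fs : List A)

/-- The functions defined by a list. -/
noncomputable abbrev gΓ : Fin fs.length → Γ(Spec (CommRingCat.of A), ⊤) := fun i => toΓ A (fs.get i)

theorem puncturedOpen_eq :
    LocCoh.puncturedOpen A (Ideal.span {a | a ∈ fs}) = ⨆ i, Uf (gΓ A fs) i := by
  refine SetLike.ext' ?_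
  rw [Opens.coe_iSup]
  ext (x : PrimeSpectrum A)
  change x ∈ (PrimeSpectrum.zeroLocus (R := A) (Ideal.span {a | a ∈ fs} : Set A))ᶜ ↔ _
  rw [PrimeSpectrum.zeroLocus_span, Set.mem_compl_iff, Set.mem_iUnion,
    PrimeSpectrum.mem_zeroLocus, Set.not_subset]
  simp only [Uf, gΓ, toΓ]
  constructor
  · rintro ⟨a, ha, hax⟩
    obtain ⟨i, rfl⟩ := List.mem_iff_get.mp ha
    refine ⟨⟨i⟩, ?_⟩
    rw [SetLike.mem_coe, AlgebraicGeometry.basicOpen_eq_of_affine]
    exact hax
  · rintro ⟨i, hi⟩
    rw [SetLike.mem_coe, AlgebraicGeometry.basicOpen_eq_of_affine] at hi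
    exact ⟨_, List.get_mem fs i.down, hi⟩

/-- Koszul colimits of a module as cohomology of the family of its sheaf. -/
noncomputable def tildeLimEquiv (p : ℕ) :
    CohIII.koszulHLim fs (ModuleCat.of A M) p ≃+
      (sheafSys (AlgebraicGeometry.tilde (R := CommRingCat.of A) (ModuleCat.of A M)) (gΓ A fs)).HQ p :=
  (koszulLimEquiv fs (ModuleCat.of A M)
    (comap (toΓ A) (secEquiv A M) (secEquiv_smul A M) (fun _ => rfl)
      (sheafSys (AlgebraicGeometry.tilde (R := CommRingCat.of A) (ModuleCat.of A M)) (gΓ A fs))) p).trans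
    (comapHQ (toΓ A) (secEquiv A M) (secEquiv_smul A M) (fun _ => rfl) _ p)

theorem nonempty_HZM_tilde (i : ℕ) :
    Nonempty (CohIII.koszulHLim fs (ModuleCat.of A M) i ≃+
      LocCohZ.HZM (Spec (CommRingCat.of A))
        (AlgebraicGeometry.tilde (R := CommRingCat.of A) (ModuleCat.of A M)) i
        (LocCoh.puncturedOpen A (Ideal.span {a | a ∈ fs}))) := by
  rw [puncturedOpen_eq A fs]
  match i with
  | 0 =>
    obtain ⟨e⟩ := nonempty_ker_HQ (gΓ A fs)
      (AlgebraicGeometry.tilde (R := CommRingCat.of A) (ModuleCat.of A M))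
    exact ⟨((tildeLimEquiv A M fs 0).trans e.symm).trans (LocCohZ.sect0Equiv (X := (Spec (CommRingCat.of A)).carrier) (Coh.toAb (AlgebraicGeometry.tilde (R := CommRingCat.of A) (ModuleCat.of A M))) (le_top : (⨆ i, Uf (gΓ A fs) i) ≤ ⊤)).symm⟩
  | 1 =>
    obtain ⟨e⟩ := nonempty_coker_HQ (gΓ A fs)
      (AlgebraicGeometry.tilde (R := CommRingCat.of A) (ModuleCat.of A M))
    obtain ⟨e'⟩ := nonempty_HZM_one_equiv
      (AlgebraicGeometry.tilde (R := CommRingCat.of A) (ModuleCat.of A M)) (⨆ i, Uf (gΓ A fs) i)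
    exact ⟨((tildeLimEquiv A M fs 1).trans e.symm).trans e'⟩
  | q + 2 =>
    obtain ⟨e⟩ := nonempty_HU_HQ (gΓ A fs)
      (AlgebraicGeometry.tilde (R := CommRingCat.of A) (ModuleCat.of A M))
      (fun i => (isAffineOpen_top _).basicOpen _) (q + 1) (by omega)
    exact ⟨((tildeLimEquiv A M fs (q + 2)).trans e.symm).trans (AddEquiv.ofBijective _
      ⟨delta_injective _ _ q, delta_surjective _ _ (q + 1)⟩)⟩

end Tilde

end KoszLib
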