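import Groth.Agent.KoszLib.Vanish
import Mathlib.RingTheory.Regular.RegularSequence

/-!
# The top degree and null-homotopies of the cone Koszul complex
-/

universe u

open CategoryTheory CategoryTheory.Limits CochainComplex CochainComplex.HomComplex

namespace KoszLib

variable {A : Type u} [CommRing A] (M : ModuleCat.{u} A) (n : ℕ)

theorem map_pow_one (fs : List A) : fs.map (· ^ 1) = fs := by simp

theorem pw_one (fs : List A) : pw 1 fs = fs.get := funext fun k => pow_one _

theorem isZero_koszulHPow_iff (fs : List A) (p : ℕ) :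
    IsZero (CohIII.koszulHPow fs M p n) ↔ Van M (pw n fs) p := by
  constructor
  · intro hz c hc
    have := ModuleCat.subsingleton_of_isZero hz
    exact (toH_eq_zero_iff M n fs p ⟨c, mem_Z.mpr hc⟩).mp (Subsingleton.elim _ _)
  · intro hv
    have : Subsingleton (CohIII.koszulHPow fs M p n : Type u) := ⟨fun a b => by
      obtain ⟨a, rfl⟩ := toH_surjective M n fs p a
      obtain ⟨b, rfl⟩ := toH_surjective M n fs p b
      rw [(toH_eq_zero_iff M n fs p a).mpr (hv a.1 (mem_Z.mp a.2)),
        (toH_eq_zero_iff M n fs p b).mpr (hv b.1 (mem_Z.mp b.2))]⟩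
    exact ModuleCat.isZero_of_subsingleton _

theorem isZero_koszulH_iff (fs : List A) (p : ℕ) :
    IsZero (CohIII.koszulH fs M p) ↔ Van M fs.get p := by
  have h := isZero_koszulHPow_iff M 1 fs p
  rw [pw_one] at h
  have hl : ∀ l : List A, fs.map (· ^ 1) = l →
      (IsZero ((CohIII.koszulCx M l).homology ((p : ℤ) - fs.length)) ↔ Van M fs.get p) := by
    rintro l rfl
    exact h
  exact hl fs (map_pow_one fs)

/-- Degrees above zero vanish. -/
theorem isZero_X_pos : ∀ (fs : List A) (i : ℤ), 0 < i → IsZero ((K M n fs).X i)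
  | [], i, h => HomologicalComplex.isZero_single_obj_X _ _ _ _ (by omega)
  | g :: fs, i, h => by
    have h1 := isZero_X_pos fs (i + 1) (by omega)
    have h2 := isZero_X_pos fs i h
    rw [IsZero.iff_id_eq_zero]
    refine ((mappingCone.id_X (phi M n g fs) i (i + 1) rfl).symm).trans ?_
    rw [h1.eq_of_tgt ((mappingCone.fst (phi M n g fs)).1.v i (i + 1) rfl) 0,
      h2.eq_of_tgt ((mappingCone.snd (phi M n g fs)).v i i (add_zero i)) 0,
      zero_comp, zero_comp, add_zero]
    rfl

theorem eq_zero_of_pos {fs : List A} {i : ℤ} (h : 0 < i) (z : (K M n fs).X i) : z = 0 :=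
  ConcreteCategory.congr_hom ((isZero_X_pos M n fs i h).eq_of_src (𝟙 _) 0) z

/-- The module in the top degree. -/
noncomputable def topX : ∀ (fs : List A) (i : ℤ), i = 0 → ((K M n fs).X i →ₗ[A] M)
  | [], i, h => (HomologicalComplex.singleObjXIsoOfEq (ComplexShape.up ℤ) 0 M i h).hom.hom
  | g :: fs, i, h => (topX fs i h).comp (sndL M n g fs i)

theorem topX_bijective : ∀ (fs : List A) (i : ℤ) (h : i = 0), Function.Bijective (topX M n fs i h)
  | [], i, h => ConcreteCategory.bijective_of_isIso
      (HomologicalComplex.singleObjXIsoOfEq (ComplexShape.up ℤ) 0 M i h).hom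
  | g :: fs, i, h => by
    refine ⟨(injective_iff_map_eq_zero _).mpr fun z hz => ?_,
      (topX_bijective fs i h).2.comp fun y => ⟨inrL M n g fs i y, snd_inr i y⟩⟩
    have h2 : sndL M n g fs i z = 0 := (topX_bijective fs i h).1 (hz.trans (map_zero _).symm)
    rw [← cone_eq i z, h2, eq_zero_of_pos M n (by omega) (fstL M n g fs i z), map_zero, map_zero,
      add_zero]

theorem mem_smul_top_iff : ∀ (fs : List A) (i : ℤ) (h : i + 1 = 0) (m : M),
    m ∈ Ideal.ofList (fs.map (· ^ n)) • (⊤ : Submodule A M) ↔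
      ∃ x, topX M n fs (i + 1) h (((K M n fs).d i (i + 1)).hom x) = m
  | [], i, h, m => by
    rw [List.map_nil, Ideal.ofList_nil, Submodule.bot_smul, Submodule.mem_bot]
    constructor
    · rintro rfl
      exact ⟨0, by rw [map_zero, map_zero]⟩
    · rintro ⟨x, hx⟩
      rw [← hx]
      exact map_zero (topX M n [] (i + 1) h)
  | g :: fs, i, h, m => by
    rw [List.map_cons, Ideal.ofList_cons, Submodule.sup_smul, Submodule.ideal_span_singleton_smul,
      Submodule.mem_sup]
    have e : ∀ z, topX M n (g :: fs) (i + 1) h (((K M n (g :: fs)).d i (i + 1)).hom z) =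
        g ^ n • topX M n fs (i + 1) h (fstL M n g fs i z) +
          topX M n fs (i + 1) h (((K M n fs).d i (i + 1)).hom (sndL M n g fs i z)) := fun z => by
      refine (congr_arg (topX M n fs (i + 1) h) (snd_d i z)).trans ?_
      rw [map_add, map_smul]
    constructor
    · rintro ⟨a, ha, b, hb, rfl⟩
      obtain ⟨a, -, rfl⟩ := (Submodule.mem_smul_pointwise_iff_exists _ _ _).mp ha
      obtain ⟨x, rfl⟩ := (mem_smul_top_iff fs i h b).mp hb
      obtain ⟨u, rfl⟩ := (topX_bijective M n fs (i + 1) h).2 a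
      refine ⟨inlL M n g fs i u + inrL M n g fs i x, (e _).trans ?_⟩
      simp only [map_add, fst_inl, fst_inr, snd_inl, snd_inr, add_zero, zero_add]
    · rintro ⟨z, hz⟩
      exact ⟨_, Submodule.smul_mem_pointwise_smul (topX M n fs (i + 1) h (fstL M n g fs i z))
        (g ^ n) ⊤ trivial, _, (mem_smul_top_iff fs i h _).mpr ⟨_, rfl⟩, (e z).symm.trans hz⟩

theorem nonempty_top_equiv (fs : List A) (i : ℤ) (h : i = 0) :
    Nonempty (((K M n fs).homology i : Type u) ≃ₗ[A]
      (M ⧸ (Ideal.ofList (fs.map (· ^ n)) • (⊤ : Submodule A M)))) := by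
  obtain ⟨j, rfl⟩ : ∃ j, i = j + 1 := ⟨i - 1, (sub_add_cancel i 1).symm⟩
  let C := K M n fs
  let lift : C.X (j + 1) ⟶ C.cycles (j + 1) := C.liftCycles (𝟙 _) (j + 1 + 1) (by simp)
    ((isZero_X_pos M n fs _ (by omega)).eq_of_tgt _ _)
  have hlift : lift ≫ C.iCycles (j + 1) = 𝟙 _ := C.liftCycles_i _ _ _ _
  let φ : (M : Type u) →ₗ[A] (C.homology (j + 1) : Type u) :=
    ((C.homologyπ (j + 1)).hom.comp lift.hom).comp
      (LinearEquiv.ofBijective _ (topX_bijective M n fs (j + 1) h)).symm.toLinearMap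
  have hsurj : Function.Surjective φ := fun y => by
    obtain ⟨z, rfl⟩ := (ModuleCat.epi_iff_surjective (C.homologyπ (j + 1))).mp inferInstance y
    refine ⟨topX M n fs (j + 1) h ((C.iCycles (j + 1)).hom z), ?_⟩
    refine congr_arg (C.homologyπ (j + 1)).hom (iCycles_injective M n fs _ ?_)
    refine (ConcreteCategory.congr_hom hlift _).trans ?_
    exact (LinearEquiv.ofBijective _ (topX_bijective M n fs (j + 1) h)).symm_apply_apply _
  have hker : LinearMap.ker φ = Ideal.ofList (fs.map (· ^ n)) • (⊤ : Submodule A M) := by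
    ext m
    obtain ⟨v, rfl⟩ := (topX_bijective M n fs (j + 1) h).2 m
    have hv : (LinearEquiv.ofBijective _ (topX_bijective M n fs (j + 1) h)).symm
        (topX M n fs (j + 1) h v) = v :=
      (LinearEquiv.ofBijective _ (topX_bijective M n fs (j + 1) h)).symm_apply_apply v
    rw [LinearMap.mem_ker, mem_smul_top_iff M n fs j h,
      show φ (topX M n fs (j + 1) h v) = (C.homologyπ (j + 1)).hom (lift.hom v) from
        congr_arg (fun t => (C.homologyπ (j + 1)).hom (lift.hom t)) hv,
      homologyπ_eq_zero_iff M n fs j (j + 1) (by simp)]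
    refine exists_congr fun x => ?_
    rw [(topX_bijective M n fs (j + 1) h).1.eq_iff, ← (iCycles_injective M n fs (j + 1)).eq_iff]
    exact Eq.congr (ConcreteCategory.congr_hom (C.toCycles_i j (j + 1)) x)
      (ConcreteCategory.congr_hom hlift v)
  exact ⟨((Submodule.quotEquivOfEq _ _ hker.symm).trans (φ.quotKerEquivOfSurjective hsurj)).symm⟩

theorem nonempty_koszulH_top (fs : List A) :
    Nonempty ((CohIII.koszulH fs M fs.length : Type u) ≃ₗ[A]
      (M ⧸ (Ideal.ofList fs • (⊤ : Submodule A M)))) := by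
  have h := nonempty_top_equiv M 1 fs ((fs.length : ℤ) - fs.length) (sub_self _)
  unfold K at h
  rwa [map_pow_one] at h

/-! ### Null-homotopies -/

variable {M n}

/-- The elements acting by zero up to homotopy. -/
def Null (K : CochainComplex (ModuleCat.{u} A) ℤ) : Submodule A A where
  carrier := {a | Nonempty (Homotopy (a • 𝟙 K) 0)}
  add_mem' := by
    rintro a b ⟨ha⟩ ⟨hb⟩
    exact ⟨((Homotopy.ofEq (add_smul a b (𝟙 K))).trans (ha.add hb)).trans (Homotopy.ofEq (add_zero _))⟩
  zero_mem' := ⟨Homotopy.ofEq (zero_smul A _)⟩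
  smul_mem' := by
    rintro c a ⟨ha⟩
    exact ⟨((Homotopy.ofEq (by rw [smul_eq_mul, mul_smul])).trans (ha.smul c)).trans
      (Homotopy.ofEq (smul_zero c))⟩

theorem null_self (g : A) (fs : List A) : g ^ n ∈ Null (K M n (g :: fs)) := by
  refine ⟨{ hom := fun i j => if h : j + 1 = i then
              (mappingCone.snd (phi M n g fs)).v i i (add_zero i) ≫
                (mappingCone.inl (phi M n g fs)).v i j (by omega)
              else 0
            zero := fun i j hij => dif_neg hij
            comm := fun i => ?_ }⟩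
  obtain ⟨j, rfl⟩ : ∃ j, i = j + 1 := ⟨i - 1, (sub_add_cancel i 1).symm⟩
  rw [dNext_eq _ (show (ComplexShape.up ℤ).Rel (j + 1) (j + 1 + 1) from rfl),
    prevD_eq _ (show (ComplexShape.up ℤ).Rel j (j + 1) from rfl), dif_pos rfl, dif_pos rfl,
    HomologicalComplex.zero_f_apply, add_zero]
  refine ModuleCat.hom_ext (LinearMap.ext fun z => ?_)
  change g ^ n • z = inlL M n g fs (j + 1)
      (sndL M n g fs (j + 1 + 1) (((K M n (g :: fs)).d (j + 1) (j + 1 + 1)).hom z)) +
    ((K M n (g :: fs)).d j (j + 1)).hom (inlL M n g fs j (sndL M n g fs (j + 1) z))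
  rw [snd_d, d_inl, map_add, map_smul, map_smul]
  conv_lhs => rw [← cone_eq (j + 1) z, smul_add]
  abel

theorem null_cons (g : A) (fs : List A) {a : A} (ha : a ∈ Null (K M n fs)) :
    a ∈ Null (K M n (g :: fs)) := by
  obtain ⟨H⟩ := ha
  refine ⟨{ hom := fun i j => if h : j + 1 = i then
              -((mappingCone.fst (phi M n g fs)).1.v i (i + 1) rfl ≫ H.hom (i + 1) i ≫
                (mappingCone.inl (phi M n g fs)).v i j (by omega)) +
              (mappingCone.snd (phi M n g fs)).v i i (add_zero i) ≫ H.hom i j ≫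
                (mappingCone.inr (phi M n g fs)).f j
              else 0
            zero := fun i j hij => dif_neg hij
            comm := fun i => ?_ }⟩
  obtain ⟨j, rfl⟩ : ∃ j, i = j + 1 := ⟨i - 1, (sub_add_cancel i 1).symm⟩
  have hH : ∀ (k : ℤ) (x : (K M n fs).X (k + 1)), a • x =
      (H.hom (k + 1 + 1) (k + 1)).hom (((K M n fs).d (k + 1) (k + 1 + 1)).hom x) +
        ((K M n fs).d k (k + 1)).hom ((H.hom (k + 1) k).hom x) := fun k x => by
    have h := H.comm (k + 1)
    rw [dNext_eq _ (show (ComplexShape.up ℤ).Rel (k + 1) (k + 1 + 1) from rfl),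
      prevD_eq _ (show (ComplexShape.up ℤ).Rel k (k + 1) from rfl),
      HomologicalComplex.zero_f_apply, add_zero] at h
    exact ConcreteCategory.congr_hom h x
  rw [dNext_eq _ (show (ComplexShape.up ℤ).Rel (j + 1) (j + 1 + 1) from rfl),
    prevD_eq _ (show (ComplexShape.up ℤ).Rel j (j + 1) from rfl), dif_pos rfl, dif_pos rfl,
    HomologicalComplex.zero_f_apply, add_zero]
  refine ModuleCat.hom_ext (LinearMap.ext fun z => ?_)
  change a • z =
    (-inlL M n g fs (j + 1) ((H.hom (j + 1 + 1 + 1) (j + 1 + 1)).hom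
        (fstL M n g fs (j + 1 + 1) (((K M n (g :: fs)).d (j + 1) (j + 1 + 1)).hom z))) +
      inrL M n g fs (j + 1) ((H.hom (j + 1 + 1) (j + 1)).hom
        (sndL M n g fs (j + 1 + 1) (((K M n (g :: fs)).d (j + 1) (j + 1 + 1)).hom z)))) +
    ((K M n (g :: fs)).d j (j + 1)).hom
      (-inlL M n g fs j ((H.hom (j + 1 + 1) (j + 1)).hom (fstL M n g fs (j + 1) z)) +
        inrL M n g fs j ((H.hom (j + 1) j).hom (sndL M n g fs (j + 1) z)))
  rw [fst_d, snd_d, map_add ((K M n (g :: fs)).d j (j + 1)).hom, map_neg ((K M n (g :: fs)).d j (j + 1)).hom,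
    d_inl, d_inr]
  conv_lhs => rw [← cone_eq (j + 1) z, smul_add, ← map_smul (inlL M n g fs (j + 1)),
    ← map_smul (inrL M n g fs (j + 1)),
    hH (j + 1) (fstL M n g fs (j + 1) z), hH j (sndL M n g fs (j + 1) z)]
  simp only [map_add, map_neg, map_smul, neg_neg]
  abel

theorem span_le_null : ∀ fs : List A, Ideal.span {x | x ∈ fs.map (· ^ n)} ≤ Null (K M n fs)
  | [] => Ideal.span_le.mpr fun x hx => by simp at hx
  | g :: fs => Ideal.span_le.mpr fun x hx => by
    rcases List.mem_cons.mp hx with rfl | hx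
    · exact null_self g fs
    · exact null_cons g fs (span_le_null fs (Ideal.subset_span hx))

theorem nonempty_homotopy (fs : List A) {a : A} (ha : a ∈ Ideal.span {x | x ∈ fs}) :
    Nonempty (Homotopy (a • 𝟙 (CohIII.koszulCx M fs)) 0) := by
  have h := span_le_null (M := M) (n := 1) fs
  unfold K at h
  rw [map_pow_one] at h
  exact h ha

end KoszLib
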