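import Groth.Agent.KoszLib.Spec
import Mathlib.RingTheory.Filtration
import Mathlib.Algebra.Module.Injective

/-!
# Injective modules and colimits of Koszul cohomology
-/

universe u

open CategoryTheory CategoryTheory.Limits TopologicalSpace Opposite AlgebraicGeometry

namespace KoszLib

variable {A : Type u} [CommRing A]

theorem subsingleton_lim (M : ModuleCat.{u} A) (fs : List A) (p : ℕ)
    (h : ∀ (n : ℕ) (c : C M fs.length p), d (fun i => fs.get i ^ n) p c = 0 →
      ∃ k, mul fs.get k p c ∈ B (fun i => fs.get i ^ (n + k)) p) :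
    Subsingleton (CohIII.koszulHLim fs M p) := by
  refine subsingleton_of_forall_eq 0 fun z => ?_
  obtain ⟨n, y, rfl⟩ := Module.DirectLimit.exists_of z
  obtain ⟨y, rfl⟩ := (powEquiv M n fs p).surjective y
  obtain ⟨c, rfl⟩ := Submodule.Quotient.mk_surjective _ y
  obtain ⟨k, hk⟩ := h n c.1 (mem_Z.mp c.2)
  rw [← Module.DirectLimit.of_f (hij := Nat.le_add_right n k)]
  refine (congr_arg (Module.DirectLimit.of A ℕ _ _ (n + k))
    ((powEquiv_trH M (Nat.le_add_right n k) fs p _).symm.trans ?_)).trans (map_zero _)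
  refine (toH_eq_zero_iff M (n + k) fs p _).mpr ?_
  change mul fs.get (n + k - n) p c.1 ∈ _
  rw [Nat.add_sub_cancel_left]
  exact hk

variable {r : ℕ} {M : Type u} [AddCommGroup M] [Module A M]

theorem d_zero_apply (f : Fin r → A) (c : C M r 0) (J : Fin 1 → Fin r) :
    d f 0 c J = f (J 0) • c Fin.elim0 := by
  rw [d_apply, Fin.sum_univ_succ, Fin.sum_univ_zero, add_zero, Fin.val_zero, pow_zero, one_mul,
    show J ∘ (0 : Fin 1).succAbove = Fin.elim0 from Subsingleton.elim _ _,
    show img J = insert (J 0) (img (Fin.elim0 : Fin 0 → Fin r)) by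
      rw [img_eq_insert_succAbove J 0,
        show J ∘ (0 : Fin 1).succAbove = Fin.elim0 from Subsingleton.elim _ _],
    W_insert_self f (by simp [mem_img])]

theorem img_const (i : Fin r) : img (fun _ : Fin 1 => i) = {i} := by
  ext y
  simp [mem_img, eq_comm]

theorem smul_comm_of_cocycle (f : Fin r → A) {c : C M r 1} (hc : d f 1 c = 0) (i j : Fin r) :
    f i • c (fun _ => j) = f j • c (fun _ => i) := by
  rcases eq_or_ne i j with rfl | hij
  · rfl
  have h := congr_fun hc ![i, j]
  have e0 : ![i, j] ∘ (0 : Fin 2).succAbove = fun _ => j := funext fun a => by fin_cases a; rfl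
  have e1 : ![i, j] ∘ (1 : Fin 2).succAbove = fun _ => i := funext fun a => by fin_cases a; rfl
  have ei : img ![i, j] = insert i {j} := by
    rw [img_eq_insert_succAbove ![i, j] 0, e0, img_const]
    rfl
  rw [d_apply, Fin.sum_univ_two, e0, e1, img_const, img_const, ei] at h
  rw [W_insert_self f (by simpa using hij), Finset.pair_comm,
    W_insert_self f (by simpa using hij.symm)] at h
  simp only [Fin.val_zero, pow_zero, one_mul, Fin.val_one, pow_one, neg_one_mul, neg_smul,
    ← sub_eq_add_neg, Pi.zero_apply, sub_eq_zero] at h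
  exact h

theorem exists_mul_mem_B_one [IsNoetherianRing A] (hM : Module.Injective A M) (f : Fin r → A)
    (n : ℕ) (c : C M r 1) (hc : d (fun i => f i ^ n) 1 c = 0) :
    ∃ k, mul f k 1 c ∈ B (fun i => f i ^ (n + k)) 1 := by
  let x : Fin r → M := fun i => c fun _ => i
  have hx : ∀ i j, f i ^ n • x j = f j ^ n • x i := fun i j =>
    smul_comm_of_cocycle (fun i => f i ^ n) hc i j
  let φ : (Fin r → A) →ₗ[A] A := Fintype.linearCombination A fun i => f i ^ n
  let N := LinearMap.ker φ
  let ψ : (Fin r → A) →ₗ[A] M := Fintype.linearCombination A x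
  let I : Ideal A := Ideal.span (Set.range fun i => f i ^ n)
  have hkill : I • N ≤ LinearMap.ker ψ := by
    refine Submodule.smul_le.mpr fun a ha b hb => LinearMap.mem_ker.mpr ?_
    have hb' : ∀ j, f j ^ n • ψ b = 0 := fun j => by
      have e : φ b = 0 := hb
      simp only [φ, Fintype.linearCombination_apply, smul_eq_mul] at e
      simp only [ψ, Fintype.linearCombination_apply, Finset.smul_sum]
      calc ∑ i, f j ^ n • b i • x i = ∑ i, (b i * f i ^ n) • x j :=
            Finset.sum_congr rfl fun i _ => by rw [mul_smul, hx i j, smul_comm]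
        _ = (∑ i, b i * f i ^ n) • x j := (Finset.sum_smul).symm
        _ = 0 := by rw [e, zero_smul]
    have hle : I ≤ LinearMap.ker (LinearMap.toSpanSingleton A M (ψ b)) :=
      Ideal.span_le.mpr (Set.range_subset_iff.mpr fun j => by simpa using hb' j)
    rw [map_smul]
    exact LinearMap.mem_ker.mp (hle ha)
  obtain ⟨k₀, hk₀⟩ := Ideal.exists_pow_inf_eq_pow_smul I N
  let K := n * (k₀ + 1)
  let Φ : (Fin r → A) →ₗ[A] A := Fintype.linearCombination A fun i => f i ^ (n + K)
  let L : (Fin r → A) →ₗ[A] M := Fintype.linearCombination A fun i => f i ^ K • x i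
  have hker : LinearMap.ker Φ ≤ LinearMap.ker L := fun b hb => by
    let b' : Fin r → A := fun i => b i * f i ^ K
    have h1 : φ b' = Φ b := by
      simp only [φ, Φ, b', Fintype.linearCombination_apply, smul_eq_mul]
      exact Finset.sum_congr rfl fun i _ => by rw [pow_add]; ring
    have h2 : ψ b' = L b := by
      simp only [ψ, L, b', Fintype.linearCombination_apply, mul_smul]
    have hmem : b' ∈ I ^ (k₀ + 1) • (⊤ : Submodule A (Fin r → A)) := by
      rw [pi_eq_sum_univ b']
      refine Submodule.sum_mem _ fun i _ => Submodule.smul_mem_smul ?_ Submodule.mem_top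
      refine Ideal.mul_mem_left _ _ ?_
      rw [show f i ^ K = (f i ^ n) ^ (k₀ + 1) from pow_mul _ _ _]
      exact Ideal.pow_mem_pow (Ideal.subset_span (Set.mem_range_self (f := fun i => f i ^ n) i)) _
    have hN : b' ∈ N := LinearMap.mem_ker.mpr (h1.trans hb)
    have hIN : b' ∈ I • N := by
      have := (hk₀ (k₀ + 1) (Nat.le_succ _)).le ⟨hmem, hN⟩
      rw [Nat.add_sub_cancel_left, pow_one] at this
      exact Submodule.smul_mono le_rfl inf_le_right this
    exact LinearMap.mem_ker.mpr (h2.symm.trans (LinearMap.mem_ker.mp (hkill hIN)))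
  obtain ⟨h, hh⟩ := hM.out (LinearMap.range Φ).subtype (Submodule.injective_subtype _)
    (((LinearMap.ker Φ).liftQ L hker).comp Φ.quotKerEquivRange.symm.toLinearMap)
  refine ⟨K, fun _ => h 1, funext fun J => ?_⟩
  rw [d_zero_apply, mul_apply]
  have hJ : (fun _ : Fin 1 => J 0) = J := funext fun a => by rw [Subsingleton.elim a 0]
  have he := hh (⟨Φ (Pi.single (J 0) 1), ⟨_, rfl⟩⟩ : LinearMap.range Φ)
  have e2 : Φ.quotKerEquivRange.symm ⟨Φ (Pi.single (J 0) 1), ⟨_, rfl⟩⟩ =
      Submodule.Quotient.mk (Pi.single (J 0) 1) :=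
    (LinearEquiv.symm_apply_eq _).mpr (Subtype.ext rfl)
  have e3 : Φ (Pi.single (J 0) 1) = f (J 0) ^ (n + K) • (1 : A) := by
    simp [Φ]
  rw [← map_smul, ← e3]
  refine Eq.trans he ?_
  rw [LinearMap.comp_apply, LinearEquiv.coe_coe, e2, Submodule.liftQ_apply]
  rw [show img J = {J 0} by rw [← img_const (J 0), hJ], Finset.prod_singleton]
  simp only [L, Fintype.linearCombination_apply_single, one_smul, x, hJ]

/-- `H¹` of an injective module dies in the colimit. -/
theorem subsingleton_lim_one [IsNoetherianRing A] (fs : List A) (hM : Module.Injective A M) :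
    Subsingleton (CohIII.koszulHLim fs (ModuleCat.of A M) 1) :=
  subsingleton_lim _ fs 1 fun n c hc => exists_mul_mem_B_one hM fs.get n c hc

/-! ### Flasqueness -/

variable (A M)

theorem exists_list_eq_puncturedOpen [NoetherianSpace (PrimeSpectrum A)]
    (U : (Spec (CommRingCat.of A)).Opens) :
    ∃ fs : List A, U = LocCoh.puncturedOpen A (Ideal.span {a | a ∈ fs}) := by
  obtain ⟨s, hs⟩ := (PrimeSpectrum.isCompact_isOpen_iff (s := ((U : Set (Spec (CommRingCat.of A))) : Set (PrimeSpectrum A)))).mp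
    ⟨NoetherianSpace.isCompact _, U.2⟩
  refine ⟨s.toList, SetLike.ext' ?_⟩
  refine hs.symm.trans ?_
  change _ = (PrimeSpectrum.zeroLocus (R := A) (Ideal.span {a | a ∈ s.toList} : Set A))ᶜ
  rw [PrimeSpectrum.zeroLocus_span]
  congr 2
  ext a
  simp

theorem surjective_iff_subsingleton (fs : List A) :
    Function.Surjective ((AlgebraicGeometry.tilde (R := CommRingCat.of A) (ModuleCat.of A M)).presheaf.map
      (homOfLE (le_top : LocCoh.puncturedOpen A (Ideal.span {a | a ∈ fs}) ≤ ⊤)).op).hom ↔
      Subsingleton (CohIII.koszulHLim fs (ModuleCat.of A M) 1) := by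
  rw [puncturedOpen_eq A fs]
  obtain ⟨e⟩ := nonempty_coker_HQ (gΓ A fs)
    (AlgebraicGeometry.tilde (R := CommRingCat.of A) (ModuleCat.of A M))
  rw [(((tildeLimEquiv A M fs 1).trans e.symm)).toEquiv.subsingleton_congr,
    QuotientAddGroup.subsingleton_iff, ← AddMonoidHom.range_eq_top]

theorem isFlasque_tilde_iff [NoetherianSpace (PrimeSpectrum A)] :
    TopCat.Sheaf.IsFlasque (Coh.toAb (AlgebraicGeometry.tilde (R := CommRingCat.of A) (ModuleCat.of A M))) ↔
      ∀ fs : List A, Subsingleton (CohIII.koszulHLim fs (ModuleCat.of A M) 1) := by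
  constructor
  · intro h fs
    rw [← surjective_iff_subsingleton]
    exact (AddCommGrpCat.epi_iff_surjective _).mp (h.epi _)
  · intro h
    refine ⟨fun {U V} i => ?_⟩
    have hV : Epi ((Coh.toAb (AlgebraicGeometry.tilde (R := CommRingCat.of A) (ModuleCat.of A M))).obj.map
        (homOfLE (le_top : V.unop ≤ ⊤)).op) := by
      refine (AddCommGrpCat.epi_iff_surjective _).mpr ?_
      obtain ⟨fs, hfs⟩ := exists_list_eq_puncturedOpen A V.unop
      obtain ⟨V⟩ := V
      change V = _ at hfs
      subst hfs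
      exact (surjective_iff_subsingleton A M fs).mpr (h fs)
    have e : (homOfLE (le_top : V.unop ≤ ⊤)).op = (homOfLE (le_top : U.unop ≤ ⊤)).op ≫ i :=
      Subsingleton.elim _ _
    rw [e, Functor.map_comp] at hV
    exact epi_of_epi ((Coh.toAb (AlgebraicGeometry.tilde (R := CommRingCat.of A) (ModuleCat.of A M))).obj.map
      (homOfLE (le_top : U.unop ≤ ⊤)).op) _

theorem subsingleton_lim_of_isFlasque (fs : List A) (i : ℕ) (hi : 2 ≤ i)
    [TopCat.Sheaf.IsFlasque (Coh.toAb (AlgebraicGeometry.tilde (R := CommRingCat.of A) (ModuleCat.of A M)))] :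
    Subsingleton (CohIII.koszulHLim fs (ModuleCat.of A M) i) := by
  obtain ⟨q, rfl⟩ := Nat.exists_eq_add_of_le' hi
  obtain ⟨e⟩ := nonempty_HU_HQ (gΓ A fs)
    (AlgebraicGeometry.tilde (R := CommRingCat.of A) (ModuleCat.of A M))
    (fun i => (isAffineOpen_top _).basicOpen _) (q + 1) (by omega)
  have := QCohLib.subsingleton_of_isFlasque q
    (Coh.toAb (AlgebraicGeometry.tilde (R := CommRingCat.of A) (ModuleCat.of A M))) (⨆ i, Uf (gΓ A fs) i)
  exact @Equiv.subsingleton _ _ ((tildeLimEquiv A M fs (q + 2)).trans e.symm).toEquiv this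

end KoszLib
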