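import Groth.Agent.KoszLib.Depth
import Groth.Agent.KoszLib.Spec

/-! # Local cohomology of coherent sheaves on affine schemes and depth -/

universe u

open CategoryTheory CategoryTheory.Limits TopologicalSpace Opposite AlgebraicGeometry CommAlgDim

namespace KoszLib

variable {Y : Scheme.{u}} [IsAffine Y] (F : Y.Modules) [Coh.IsQCoh F] (fs : List Γ(Y, ⊤))

/-- Koszul colimits of the sections as cohomology of the family of the sheaf. -/
noncomputable def secLimEquiv (p : ℕ) :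
    CohIII.koszulHLim fs (ModuleCat.of Γ(Y, ⊤) Γ(F, ⊤)) p ≃+ (sheafSys F fs.get).HQ p :=
  (koszulLimEquiv fs (ModuleCat.of Γ(Y, ⊤) Γ(F, ⊤))
    (comap (RingHom.id Γ(Y, ⊤)) (AddEquiv.refl Γ(F, ⊤)) (fun _ _ => rfl) (fun _ => rfl) (sheafSys F fs.get)) p).trans
    (comapHQ (RingHom.id Γ(Y, ⊤)) (AddEquiv.refl Γ(F, ⊤)) (fun _ _ => rfl) (fun _ => rfl) _ p)

/-- Koszul colimits compute cohomology with supports on an affine scheme. -/
theorem nonempty_HZc_equiv (i : ℕ) :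
    Nonempty (CohIII.koszulHLim fs (ModuleCat.of Γ(Y, ⊤) Γ(F, ⊤)) i ≃+
      LocCohZ.HZM Y F i (⨆ j, Uf fs.get j)) := by
  match i with
  | 0 =>
    obtain ⟨e⟩ := nonempty_ker_HQ fs.get F
    exact ⟨((secLimEquiv F fs 0).trans e.symm).trans (LocCohZ.sect0Equiv (X := Y.carrier) (Coh.toAb F)
      (le_top : (⨆ j, Uf fs.get j) ≤ ⊤)).symm⟩
  | 1 =>
    obtain ⟨e⟩ := nonempty_coker_HQ fs.get F
    obtain ⟨e'⟩ := nonempty_HZM_one_equiv F (⨆ j, Uf fs.get j)
    exact ⟨((secLimEquiv F fs 1).trans e.symm).trans e'⟩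
  | q + 2 =>
    obtain ⟨e⟩ := nonempty_HU_HQ fs.get F (fun i => (isAffineOpen_top _).basicOpen _) (q + 1) (by omega)
    exact ⟨((secLimEquiv F fs (q + 2)).trans e.symm).trans (AddEquiv.ofBijective _
      ⟨delta_injective _ _ q, delta_surjective _ _ (q + 1)⟩)⟩

/-- Vanishing of cohomology with supports below `n` measures the depth along the ideal of the closed set. -/
theorem hasSeqIn_iff_HZM [IsNoetherianRing Γ(Y, ⊤)] [Module.Finite Γ(Y, ⊤) Γ(F, ⊤)] (n : ℕ) :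
    HasSeqIn (Ideal.span (Set.range fs.get)) Γ(F, ⊤) n ↔
      ∀ i < n, Subsingleton (LocCohZ.HZM Y F i (⨆ j, Uf fs.get j)) := by
  rw [hasSeqIn_iff_limVan]
  refine forall_congr' fun i => imp_congr_right fun _ => ?_
  obtain ⟨e⟩ := nonempty_HZc_equiv F fs i
  rw [← e.toEquiv.subsingleton_congr]
  exact (subsingleton_koszulHLim_iff (ModuleCat.of Γ(Y, ⊤) Γ(F, ⊤)) fs i).symm

end KoszLib
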