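import Mathlib.Algebra.Module.Submodule.Range
import Mathlib.Algebra.Module.Pi
import Mathlib.LinearAlgebra.Pi
import Mathlib.LinearAlgebra.Quotient.Basic
import Mathlib.Algebra.BigOperators.Fin
import Mathlib.Data.Fintype.BigOperators
import Mathlib.Data.Fin.Parity
import Mathlib.Tactic.Abel
import Mathlib.Tactic.Ring

/-!
# A full-tuple model of the Koszul cochain complex

Cochains of degree `p` are all functions on `p`-tuples of indices; the differential is weighted by the
product of the elements whose index disappears.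
-/

universe u

namespace KoszLib

open Finset

variable {A : Type u} [CommRing A] {M : Type u} [AddCommGroup M] [Module A M] {r p q o : ℕ}

/-- The index set of a tuple. -/
def img (J : Fin p → Fin r) : Finset (Fin r) := univ.image J

theorem mem_img {J : Fin p → Fin r} {x : Fin r} : x ∈ img J ↔ ∃ a, J a = x := by simp [img]

theorem img_comp_subset (J : Fin p → Fin r) (g : Fin q → Fin p) : img (J ∘ g) ⊆ img J := by
  intro x hx
  obtain ⟨a, ha⟩ := mem_img.mp hx
  exact mem_img.mpr ⟨g a, ha⟩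

theorem img_cons (x : Fin r) (J : Fin p → Fin r) :
    img (Fin.cons x J : Fin (p + 1) → Fin r) = insert x (img J) := by
  ext y
  simp [mem_img, Fin.exists_fin_succ, eq_comm]

theorem img_succ (J : Fin p → Fin r) : img (Fin.succ ∘ J) = (img J).map (Fin.succEmb r) := by
  ext y
  simp [mem_img]

theorem img_eq_insert_succAbove (J : Fin (p + 1) → Fin r) (k : Fin (p + 1)) :
    img J = insert (J k) (img (J ∘ k.succAbove)) := by
  ext y
  simp only [mem_img, mem_insert, Function.comp_apply]
  constructor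
  · rintro ⟨a, rfl⟩
    rcases eq_or_ne a k with rfl | h
    · exact Or.inl rfl
    · obtain ⟨b, rfl⟩ := Fin.exists_succAbove_eq h
      exact Or.inr ⟨b, rfl⟩
  · rintro (rfl | ⟨b, rfl⟩)
    · exact ⟨k, rfl⟩
    · exact ⟨_, rfl⟩

theorem zero_mem_img_iff {J : Fin p → Fin (r + 1)} : (0 : Fin (r + 1)) ∈ img J ↔ ∃ a, J a = 0 :=
  mem_img

theorem zero_notMem_img_succ (J : Fin p → Fin r) : (0 : Fin (r + 1)) ∉ img (Fin.succ ∘ J) := by
  simp [mem_img, Fin.succ_ne_zero]

/-- The product of the elements indexed by `s` but not by `t`. -/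
def W (f : Fin r → A) (s t : Finset (Fin r)) : A := (s \ t).prod f

theorem W_trans (f : Fin r → A) {s t v : Finset (Fin r)} (hts : t ⊆ s) (hvt : v ⊆ t) :
    W f s t * W f t v = W f s v := by
  rw [W, W, W, ← prod_union (disjoint_sdiff_self_left.mono_right sdiff_subset),
    Finset.sdiff_union_sdiff_cancel hts hvt]

theorem W_eq_one (f : Fin r → A) {s t : Finset (Fin r)} (h : s ⊆ t) : W f s t = 1 := by
  rw [W, sdiff_eq_empty_iff_subset.mpr h, prod_empty]

theorem W_map_succ (f : Fin (r + 1) → A) (s t : Finset (Fin r)) :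
    W f (s.map (Fin.succEmb r)) (t.map (Fin.succEmb r)) = W (f ∘ Fin.succ) s t := by
  rw [W, W, ← Finset.map_sdiff, prod_map]
  rfl

theorem W_insert_zero_map (f : Fin (r + 1) → A) (s t : Finset (Fin r)) :
    W f (insert 0 (s.map (Fin.succEmb r))) (insert 0 (t.map (Fin.succEmb r))) =
      W (f ∘ Fin.succ) s t := by
  rw [← W_map_succ, W, W]
  refine prod_congr ?_ fun _ _ => rfl
  ext y
  simp only [mem_sdiff, mem_insert, mem_map, Fin.coe_succEmb]
  constructor
  · rintro ⟨h | h, hn⟩
    · exact absurd (Or.inl h) hn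
    · exact ⟨h, fun h' => hn (Or.inr h')⟩
  · rintro ⟨h, hn⟩
    refine ⟨Or.inr h, ?_⟩
    rintro (rfl | h')
    · obtain ⟨a, -, ha⟩ := h
      exact Fin.succ_ne_zero a ha
    · exact hn h'

theorem W_insert_self (f : Fin r → A) {s : Finset (Fin r)} {x : Fin r} (h : x ∉ s) :
    W f (insert x s) s = f x := by
  rw [W, show insert x s \ s = {x} by
    ext y
    simp only [mem_sdiff, mem_insert, mem_singleton]
    exact ⟨fun h' => h'.1.resolve_right h'.2, fun h' => ⟨Or.inl h', h' ▸ h⟩⟩, prod_singleton]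

/-- Weights of the powers. -/
theorem W_pow (f : Fin r → A) (s t : Finset (Fin r)) (n : ℕ) :
    W (fun i => f i ^ n) s t = W f s t ^ n := by
  rw [W, W, prod_pow]

/-- Cochains. -/
abbrev C (M : Type u) (r p : ℕ) : Type u := (Fin p → Fin r) → M

/-- The differential. -/
def d (f : Fin r → A) (p : ℕ) : C M r p →ₗ[A] C M r (p + 1) where
  toFun c J := ∑ k : Fin (p + 1),
    ((-1 : A) ^ (k : ℕ) * W f (img J) (img (J ∘ k.succAbove))) • c (J ∘ k.succAbove)
  map_add' c c' := by funext J; simp [Finset.sum_add_distrib]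
  map_smul' a c := by funext J; simp [Finset.smul_sum, smul_comm a]

theorem d_apply (f : Fin r → A) (p : ℕ) (c : C M r p) (J : Fin (p + 1) → Fin r) :
    d f p c J = ∑ k : Fin (p + 1),
      ((-1 : A) ^ (k : ℕ) * W f (img J) (img (J ∘ k.succAbove))) • c (J ∘ k.succAbove) := rfl

/-- An alternating double sum over the codimension two faces vanishes. -/
theorem sum_alt_eq_zero {N : Type*} [AddCommGroup N] [Module A N]
    (G : (Fin p → Fin (p + 2)) → N) :
    ∑ k : Fin (p + 2), ∑ l : Fin (p + 1),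
      (-1 : A) ^ ((k : ℕ) + (l : ℕ)) • G (k.succAbove ∘ l.succAbove) = 0 := by
  rw [← Fintype.sum_prod_type']
  refine Finset.sum_involution (fun x _ => (x.1.succAbove x.2, x.2.predAbove x.1)) ?_ ?_ ?_ ?_
  · rintro ⟨k, l⟩ -
    have hG : (k.succAbove l).succAbove ∘ (l.predAbove k).succAbove =
        k.succAbove ∘ l.succAbove :=
      funext fun a => Fin.succAbove_succAbove_succAbove_predAbove k l a
    simp only [hG, Fin.neg_one_pow_succAbove_add_predAbove, neg_smul, add_neg_cancel]
  · rintro ⟨k, l⟩ - - h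
    exact Fin.succAbove_ne k l (congr_arg Prod.fst h)
  · exact fun _ _ => Finset.mem_univ _
  · rintro ⟨k, l⟩ -
    simp [Fin.succAbove_succAbove_predAbove, Fin.predAbove_predAbove_succAbove]

theorem d_d (f : Fin r → A) (p : ℕ) (c : C M r p) : d f (p + 1) (d f p c) = 0 := by
  funext J
  simp only [d_apply, Finset.smul_sum, smul_smul, Pi.zero_apply]
  refine Eq.trans ?_ (sum_alt_eq_zero (A := A) fun g : Fin p → Fin (p + 2) =>
    W f (img J) (img (J ∘ g)) • c (J ∘ g))
  refine Finset.sum_congr rfl fun k _ => Finset.sum_congr rfl fun l _ => ?_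
  rw [smul_smul, pow_add]
  simp only [← Function.comp_assoc]
  rw [← W_trans f (img_comp_subset J k.succAbove) (img_comp_subset (J ∘ k.succAbove) l.succAbove)]
  congr 1
  ring

/-- Cocycles. -/
def Z (f : Fin r → A) (p : ℕ) : Submodule A (C M r p) := LinearMap.ker (d f p)

/-- Coboundaries. -/
def B (f : Fin r → A) : ∀ p, Submodule A (C M r p)
  | 0 => ⊥
  | p + 1 => LinearMap.range (d f p)

theorem mem_Z {f : Fin r → A} {c : C M r p} : c ∈ Z f p ↔ d f p c = 0 := LinearMap.mem_ker

theorem B_le_Z (f : Fin r → A) : ∀ p, (B f p : Submodule A (C M r p)) ≤ Z f p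
  | 0 => bot_le
  | p + 1 => by
    rintro _ ⟨x, rfl⟩
    exact mem_Z.mpr (d_d f p x)

/-- Cohomology. -/
abbrev H (M : Type u) [AddCommGroup M] [Module A M] (f : Fin r → A) (p : ℕ) : Type u :=
  ↥(Z (M := M) f p) ⧸ (B (M := M) f p).comap (Z (M := M) f p).subtype

/-! ### Splitting off the first element -/

/-- Restriction to tuples avoiding `0`. -/
def res (p : ℕ) : C M (r + 1) p →ₗ[A] C M r p := LinearMap.funLeft A M fun J => Fin.succ ∘ J

theorem res_apply (c : C M (r + 1) p) (J : Fin p → Fin r) :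
    res (A := A) p c J = c (Fin.succ ∘ J) := rfl

/-- Restriction to tuples starting with `0`. -/
def hd (p : ℕ) : C M (r + 1) (p + 1) →ₗ[A] C M r p :=
  LinearMap.funLeft A M fun J => Fin.cons 0 (Fin.succ ∘ J)

theorem hd_apply (c : C M (r + 1) (p + 1)) (J : Fin p → Fin r) :
    hd (A := A) p c J = c (Fin.cons 0 (Fin.succ ∘ J)) := rfl

theorem cons_comp_succAbove_zero {α : Type*} (x : α) (J : Fin p → α) :
    (Fin.cons x J : Fin (p + 1) → α) ∘ (0 : Fin (p + 1)).succAbove = J :=
  funext fun a => by simp [Fin.succAbove_zero]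

theorem cons_comp_succAbove_succ {α : Type*} (x : α) (J : Fin (p + 1) → α) (l : Fin (p + 1)) :
    (Fin.cons x J : Fin (p + 2) → α) ∘ l.succ.succAbove =
      Fin.cons x (J ∘ l.succAbove) := by
  funext a
  refine Fin.cases ?_ (fun b => ?_) a
  · simp
  · simp [Fin.succ_succAbove_succ]

theorem res_d (f : Fin (r + 1) → A) (c : C M (r + 1) p) :
    res (A := A) (p + 1) (d f p c) = d (f ∘ Fin.succ) p (res (A := A) p c) := by
  funext J
  simp only [res_apply, d_apply]
  refine Finset.sum_congr rfl fun k _ => ?_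
  rw [Function.comp_assoc Fin.succ J, img_succ, img_succ, W_map_succ]

theorem W_cons_zero (f : Fin (r + 1) → A) (J : Fin p → Fin r) :
    W f (img (Fin.cons 0 (Fin.succ ∘ J) : Fin (p + 1) → Fin (r + 1))) (img (Fin.succ ∘ J)) = f 0 := by
  rw [img_cons, W_insert_self f (zero_notMem_img_succ J)]

theorem hd_d_zero (f : Fin (r + 1) → A) (c : C M (r + 1) 0) :
    hd (A := A) 0 (d f 0 c) = f 0 • res (A := A) 0 c := by
  funext J
  rw [hd_apply, d_apply, Fin.sum_univ_succ, Fin.sum_univ_zero, add_zero]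
  simp only [Pi.smul_apply, res_apply,
    cons_comp_succAbove_zero, Fin.val_zero, pow_zero, one_mul, W_cons_zero]

theorem hd_d (f : Fin (r + 1) → A) (c : C M (r + 1) (p + 1)) :
    hd (A := A) (p + 1) (d f (p + 1) c) =
      f 0 • res (A := A) (p + 1) c - d (f ∘ Fin.succ) p (hd (A := A) p c) := by
  funext J
  simp only [hd_apply, d_apply, Fin.sum_univ_succ (n := p + 1), Pi.smul_apply, Pi.sub_apply,
    res_apply, cons_comp_succAbove_zero, Fin.val_zero, pow_zero, one_mul, W_cons_zero,
    cons_comp_succAbove_succ, sub_eq_add_neg, ← Finset.sum_neg_distrib]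
  refine congr_arg _ (Finset.sum_congr rfl fun l _ => ?_)
  rw [img_cons, img_cons, Function.comp_assoc Fin.succ J, img_succ, img_succ, W_insert_zero_map,
    Fin.val_succ, pow_succ', mul_assoc, neg_one_mul, neg_smul]

/-- The homotopy. -/
def h (p : ℕ) : C M (r + 1) (p + 1) →ₗ[A] C M (r + 1) p where
  toFun c J := if (0 : Fin (r + 1)) ∈ img J then c (Fin.cons 0 J) else 0
  map_add' c c' := by funext J; simp only [Pi.add_apply]; split_ifs <;> simp
  map_smul' a c := by funext J; simp only [Pi.smul_apply, RingHom.id_apply]; split_ifs <;> simp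

theorem h_apply (c : C M (r + 1) (p + 1)) (J : Fin p → Fin (r + 1)) :
    h (A := A) p c J = if (0 : Fin (r + 1)) ∈ img J then c (Fin.cons 0 J) else 0 := rfl

theorem h_zero (c : C M (r + 1) 1) : h (A := A) 0 c = 0 := by
  funext J
  rw [h_apply, if_neg fun h => by
    obtain ⟨a, -⟩ := zero_mem_img_iff.mp h
    exact a.elim0]
  rfl

/-- `1 - dh - hd`. -/
def R (f : Fin (r + 1) → A) : ∀ p, C M (r + 1) p →ₗ[A] C M (r + 1) p
  | 0 => LinearMap.id
  | p + 1 => LinearMap.id - (d f p).comp (h (A := A) p) - (h (A := A) (p + 1)).comp (d f (p + 1))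

theorem R_succ (f : Fin (r + 1) → A) (c : C M (r + 1) (p + 1)) :
    R f (p + 1) c = c - d f p (h (A := A) p c) - h (A := A) (p + 1) (d f (p + 1) c) := rfl

theorem R_apply_of_notMem (f : Fin (r + 1) → A) (c : C M (r + 1) (p + 1))
    (J : Fin (p + 1) → Fin (r + 1)) (hJ : (0 : Fin (r + 1)) ∉ img J) :
    R f (p + 1) c J = c J := by
  have h1 : h (A := A) (p + 1) (d f (p + 1) c) J = 0 := by rw [h_apply, if_neg hJ]
  have h2 : d f p (h (A := A) p c) J = 0 := by
    rw [d_apply]
    refine Finset.sum_eq_zero fun k _ => ?_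
    rw [h_apply, if_neg fun hm => hJ (img_comp_subset J _ hm), smul_zero]
  simp [R_succ, h1, h2]

theorem R_apply_of_mem (f : Fin (r + 1) → A) (c : C M (r + 1) (p + 1))
    (J : Fin (p + 1) → Fin (r + 1)) (hJ : (0 : Fin (r + 1)) ∈ img J) :
    R f (p + 1) c J = ∑ l : Fin (p + 1),
      if (0 : Fin (r + 1)) ∈ img (J ∘ l.succAbove) then 0
      else (-1 : A) ^ (l : ℕ) • c (Fin.cons 0 (J ∘ l.succAbove)) := by
  have h1 : h (A := A) (p + 1) (d f (p + 1) c) J = c J + ∑ l : Fin (p + 1),
      -(((-1 : A) ^ (l : ℕ) *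
        W f (img J) (insert 0 (img (J ∘ l.succAbove)))) • c (Fin.cons 0 (J ∘ l.succAbove))) := by
    rw [h_apply, if_pos hJ, d_apply, Fin.sum_univ_succ]
    congr 1
    · rw [cons_comp_succAbove_zero, img_cons, Finset.insert_eq_of_mem hJ, W_eq_one f subset_rfl]
      simp
    · refine Finset.sum_congr rfl fun l _ => ?_
      rw [cons_comp_succAbove_succ, img_cons, img_cons, Finset.insert_eq_of_mem hJ, Fin.val_succ,
        pow_succ', mul_assoc, neg_one_mul, neg_smul]
  rw [R_succ, Pi.sub_apply, Pi.sub_apply, h1, d_apply, Finset.sum_neg_distrib, ← sub_eq_zero]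
  simp only [h_apply]
  rw [show ∀ a b e g : M, a - b - (a + -e) - g = e - b - g from fun a b e g => by abel,
    ← Finset.sum_sub_distrib, ← Finset.sum_sub_distrib]
  refine Finset.sum_eq_zero fun l _ => ?_
  by_cases hl : (0 : Fin (r + 1)) ∈ img (J ∘ l.succAbove)
  · simp [hl]
  · have hJl : J l = 0 := by
      rw [img_eq_insert_succAbove J l, Finset.mem_insert] at hJ
      exact (hJ.resolve_right hl).symm
    have : W f (img J) (insert 0 (img (J ∘ l.succAbove))) = 1 :=
      W_eq_one f (by rw [img_eq_insert_succAbove J l, hJl])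
    simp [hl, this]

theorem res_R (f : Fin (r + 1) → A) : ∀ (p : ℕ) (c : C M (r + 1) p),
    res (A := A) p (R f p c) = res (A := A) p c
  | 0, _ => rfl
  | _ + 1, c => funext fun J => R_apply_of_notMem f c _ (zero_notMem_img_succ J)

theorem hd_R (f : Fin (r + 1) → A) (p : ℕ) (c : C M (r + 1) (p + 1)) :
    hd (A := A) p (R f (p + 1) c) = hd (A := A) p c := by
  funext J
  rw [hd_apply, hd_apply, R_apply_of_mem f c _ (by simp [img_cons]), Fintype.sum_eq_single 0]
  · rw [cons_comp_succAbove_zero, if_neg (zero_notMem_img_succ J)]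
    simp
  · intro l hl
    rw [if_pos]
    obtain ⟨b, hb⟩ := Fin.exists_succAbove_eq hl.symm
    exact zero_mem_img_iff.mpr ⟨b, by simp [hb]⟩

theorem eq_succ_comp {J : Fin p → Fin (r + 1)} (hJ : (0 : Fin (r + 1)) ∉ img J) :
    ∃ J' : Fin p → Fin r, Fin.succ ∘ J' = J :=
  ⟨fun a => (J a).pred fun e => hJ (zero_mem_img_iff.mpr ⟨a, e⟩),
    funext fun a => Fin.succ_pred _ _⟩

theorem R_eq_zero (f : Fin (r + 1) → A) : ∀ (p : ℕ) (c : C M (r + 1) (p + 1)),
    res (A := A) (p + 1) c = 0 → hd (A := A) p c = 0 → R f (p + 1) c = 0 := by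
  intro p c hres hhd
  funext J
  by_cases hJ : (0 : Fin (r + 1)) ∈ img J
  · rw [R_apply_of_mem f c J hJ]
    refine Finset.sum_eq_zero fun l _ => ?_
    split_ifs with hl
    · rfl
    · obtain ⟨J', hJ'⟩ := eq_succ_comp hl
      rw [← hJ', show c (Fin.cons 0 (Fin.succ ∘ J')) = 0 from congr_fun hhd J', smul_zero]
  · obtain ⟨J', rfl⟩ := eq_succ_comp hJ
    rw [R_apply_of_notMem f c _ hJ]
    exact congr_fun hres J'

/-- Some linear lift of a pair. -/
def lift (p : ℕ) : C M r (p + 1) × C M r p →ₗ[A] C M (r + 1) (p + 1) where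
  toFun ab J :=
    if h : (0 : Fin (r + 1)) ∉ img J then ab.1 fun a => (J a).pred fun e =>
      h (zero_mem_img_iff.mpr ⟨a, e⟩)
    else if h' : J 0 = 0 ∧ (0 : Fin (r + 1)) ∉ img (Fin.tail J) then
      ab.2 fun a => (Fin.tail J a).pred fun e => h'.2 (zero_mem_img_iff.mpr ⟨a, e⟩)
    else 0
  map_add' x y := by
    funext J
    simp only [Prod.fst_add, Prod.snd_add, Pi.add_apply]
    split_ifs <;> simp
  map_smul' a x := by
    funext J
    simp only [Prod.smul_fst, Prod.smul_snd, Pi.smul_apply, RingHom.id_apply]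
    split_ifs <;> simp

theorem res_lift (a : C M r (p + 1)) (b : C M r p) :
    res (A := A) (p + 1) (lift (A := A) p (a, b)) = a := by
  funext J
  refine (dif_pos (zero_notMem_img_succ J)).trans ?_
  simp

theorem hd_lift (a : C M r (p + 1)) (b : C M r p) :
    hd (A := A) p (lift (A := A) p (a, b)) = b := by
  funext J
  refine (dif_neg (by simp [img_cons])).trans ?_
  refine (dif_pos ⟨rfl, by simpa using zero_notMem_img_succ J⟩).trans ?_
  simp

/-- The section. -/
def sec (f : Fin (r + 1) → A) (p : ℕ) : C M r (p + 1) × C M r p →ₗ[A] C M (r + 1) (p + 1) :=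
  (R f (p + 1)).comp (lift (A := A) p)

/-- The section in degree zero. -/
def sec₀ : C M r 0 →ₗ[A] C M (r + 1) 0 := LinearMap.funLeft A M fun _ => Fin.elim0

theorem res_sec₀ (a : C M r 0) : res (A := A) 0 (sec₀ (A := A) a) = a :=
  funext fun J => congr_arg a (Subsingleton.elim _ J)

theorem sec₀_res (c : C M (r + 1) 0) : sec₀ (A := A) (res (A := A) 0 c) = c :=
  funext fun J => congr_arg c (Subsingleton.elim _ J)

theorem res_sec (f : Fin (r + 1) → A) (a : C M r (p + 1)) (b : C M r p) :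
    res (A := A) (p + 1) (sec f p (a, b)) = a :=
  (res_R f (p + 1) _).trans (res_lift a b)

theorem hd_sec (f : Fin (r + 1) → A) (a : C M r (p + 1)) (b : C M r p) :
    hd (A := A) p (sec f p (a, b)) = b :=
  (hd_R f p _).trans (hd_lift a b)

theorem sec_eq (f : Fin (r + 1) → A) (c : C M (r + 1) (p + 1)) :
    sec f p (res (A := A) (p + 1) c, hd (A := A) p c) = R f (p + 1) c := by
  rw [← sub_eq_zero, sec, LinearMap.comp_apply, ← map_sub]
  apply R_eq_zero
  · rw [map_sub, res_lift, sub_self]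
  · rw [map_sub, hd_lift, sub_self]

theorem d_sec (f : Fin (r + 1) → A) (a : C M r (p + 1)) (b : C M r p) :
    d f (p + 1) (sec f p (a, b)) = sec f (p + 1)
      (d (f ∘ Fin.succ) (p + 1) a, f 0 • a - d (f ∘ Fin.succ) p b) := by
  conv_rhs => rw [← res_sec f a b, ← res_d]; rw [res_sec f a b]
  have : f 0 • a - d (f ∘ Fin.succ) p b = hd (A := A) (p + 1) (d f (p + 1) (lift (A := A) p (a, b))) := by
    rw [hd_d, res_lift, hd_lift]
  have h' : d (f ∘ Fin.succ) (p + 1) a =
      res (A := A) (p + 2) (d f (p + 1) (lift (A := A) p (a, b))) := by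
    rw [res_d, res_lift]
  rw [this, show res (A := A) (p + 1 + 1) (d f (p + 1) (sec f p (a, b))) =
    res (A := A) (p + 2) (d f (p + 1) (lift (A := A) p (a, b))) by rw [res_d, res_sec, ← h'],
    sec_eq, R_succ, sec, LinearMap.comp_apply, R_succ, map_sub, map_sub, d_d, d_d, map_zero,
    sub_zero, sub_zero]

theorem d_sec₀ (f : Fin (r + 1) → A) (a : C M r 0) :
    d f 0 (sec₀ (A := A) a) = sec f 0 (d (f ∘ Fin.succ) 0 a, f 0 • a) := by
  conv_rhs => rw [← res_sec₀ (A := A) a, ← res_d, ← hd_d_zero]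
  rw [sec_eq, R_succ, d_d, map_zero, sub_zero, h_zero, map_zero, sub_zero]

end KoszLib
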