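import Groth.Prelude.Def_ega3
import Groth.Agent.KoszLib.Aug

/-!
# The cone Koszul complex and the full-tuple model
-/

universe u

open CategoryTheory CategoryTheory.Limits CochainComplex CochainComplex.HomComplex

namespace KoszLib

variable {A : Type u} [CommRing A] (M : ModuleCat.{u} A) (n : ℕ)

/-- The powers of a list, as a family. -/
def pw (n : ℕ) (fs : List A) : Fin fs.length → A := fun k => fs.get k ^ n

theorem pw_succ (g : A) (fs : List A) : pw n (g :: fs) ∘ Fin.succ = pw n fs := rfl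

theorem pw_zero (g : A) (fs : List A) :
    pw n (g :: fs) (0 : Fin (fs.length + 1)) = g ^ n := rfl

/-- The Koszul complex of the powers. -/
noncomputable abbrev K (fs : List A) : CochainComplex (ModuleCat.{u} A) ℤ :=
  CohIII.koszulCx M (fs.map (· ^ n))

/-- The map whose cone is taken. -/
noncomputable abbrev phi (g : A) (fs : List A) : K M n fs ⟶ K M n fs := g ^ n • 𝟙 (K M n fs)

theorem K_cons (g : A) (fs : List A) : K M n (g :: fs) = mappingCone (phi M n g fs) := rfl

/-- Left inclusion. -/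
noncomputable def inlL (g : A) (fs : List A) (i : ℤ) :
    (K M n fs).X (i + 1) →ₗ[A] (K M n (g :: fs)).X i :=
  ((mappingCone.inl (phi M n g fs)).v (i + 1) i (by omega)).hom

/-- Right inclusion. -/
noncomputable def inrL (g : A) (fs : List A) (i : ℤ) :
    (K M n fs).X i →ₗ[A] (K M n (g :: fs)).X i :=
  ((mappingCone.inr (phi M n g fs)).f i).hom

/-- First projection. -/
noncomputable def fstL (g : A) (fs : List A) (i : ℤ) :
    (K M n (g :: fs)).X i →ₗ[A] (K M n fs).X (i + 1) :=
  ((mappingCone.fst (phi M n g fs)).1.v i (i + 1) rfl).hom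

/-- Second projection. -/
noncomputable def sndL (g : A) (fs : List A) (i : ℤ) :
    (K M n (g :: fs)).X i →ₗ[A] (K M n fs).X i :=
  ((mappingCone.snd (phi M n g fs)).v i i (add_zero i)).hom

variable {M n} {g : A} {fs : List A}

theorem fst_inl (i : ℤ) (x : (K M n fs).X (i + 1)) : fstL M n g fs i (inlL M n g fs i x) = x :=
  ConcreteCategory.congr_hom (mappingCone.inl_v_fst_v (phi M n g fs) (i + 1) i rfl) x

theorem snd_inl (i : ℤ) (x : (K M n fs).X (i + 1)) : sndL M n g fs i (inlL M n g fs i x) = 0 :=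
  ConcreteCategory.congr_hom
    (mappingCone.inl_v_snd_v (phi M n g fs) (i + 1) i (by omega)) x

theorem fst_inr (i : ℤ) (y : (K M n fs).X i) : fstL M n g fs i (inrL M n g fs i y) = 0 :=
  ConcreteCategory.congr_hom (mappingCone.inr_f_fst_v (phi M n g fs) i (i + 1) rfl) y

theorem snd_inr (i : ℤ) (y : (K M n fs).X i) : sndL M n g fs i (inrL M n g fs i y) = y :=
  ConcreteCategory.congr_hom (mappingCone.inr_f_snd_v (phi M n g fs) i) y

theorem cone_eq (i : ℤ) (z : (K M n (g :: fs)).X i) :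
    inlL M n g fs i (fstL M n g fs i z) + inrL M n g fs i (sndL M n g fs i z) = z :=
  ConcreteCategory.congr_hom (mappingCone.id_X (phi M n g fs) i (i + 1) rfl) z

theorem phi_f (i : ℤ) (x : (K M n fs).X i) : ((phi M n g fs).f i).hom x = g ^ n • x := rfl

theorem d_inl (i : ℤ) (x : (K M n fs).X (i + 1)) :
    ((K M n (g :: fs)).d i (i + 1)).hom (inlL M n g fs i x) =
      inrL M n g fs (i + 1) (g ^ n • x) -
        inlL M n g fs (i + 1) (((K M n fs).d (i + 1) (i + 1 + 1)).hom x) :=
  ConcreteCategory.congr_hom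
    (mappingCone.inl_v_d (phi M n g fs) (i + 1) i (i + 1 + 1) (by omega) (by omega)) x

theorem d_inr (i : ℤ) (y : (K M n fs).X i) :
    ((K M n (g :: fs)).d i (i + 1)).hom (inrL M n g fs i y) =
      inrL M n g fs (i + 1) (((K M n fs).d i (i + 1)).hom y) :=
  ConcreteCategory.congr_hom (mappingCone.inr_f_d (phi M n g fs) i (i + 1)) y

theorem fst_d (i : ℤ) (z : (K M n (g :: fs)).X i) :
    fstL M n g fs (i + 1) (((K M n (g :: fs)).d i (i + 1)).hom z) =
      -((K M n fs).d (i + 1) (i + 1 + 1)).hom (fstL M n g fs i z) :=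
  ConcreteCategory.congr_hom
    (mappingCone.d_fst_v (phi M n g fs) i (i + 1) (i + 1 + 1) rfl rfl) z

theorem snd_d (i : ℤ) (z : (K M n (g :: fs)).X i) :
    sndL M n g fs (i + 1) (((K M n (g :: fs)).d i (i + 1)).hom z) =
      g ^ n • fstL M n g fs i z + ((K M n fs).d i (i + 1)).hom (sndL M n g fs i z) :=
  ConcreteCategory.congr_hom (mappingCone.d_snd_v (phi M n g fs) i (i + 1) rfl) z

variable (M n)

/-- Degrees below the range vanish. -/
theorem isZero_X : ∀ (fs : List A) (i : ℤ), i + fs.length < 0 → IsZero ((K M n fs).X i)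
  | [], i, h => HomologicalComplex.isZero_single_obj_X _ _ _ _ (by simp at h; omega)
  | g :: fs, i, h => by
    rw [List.length_cons] at h
    have h1 := isZero_X fs (i + 1) (by omega)
    have h2 := isZero_X fs i (by omega)
    rw [IsZero.iff_id_eq_zero]
    refine ((mappingCone.id_X (phi M n g fs) i (i + 1) rfl).symm).trans ?_
    rw [h1.eq_of_tgt ((mappingCone.fst (phi M n g fs)).1.v i (i + 1) rfl) 0,
      h2.eq_of_tgt ((mappingCone.snd (phi M n g fs)).v i i (add_zero i)) 0,
      zero_comp, zero_comp, add_zero]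
    rfl

theorem eq_zero_of_lt {fs : List A} {i : ℤ} (h : i + fs.length < 0) (z : (K M n fs).X i) :
    z = 0 :=
  ConcreteCategory.congr_hom ((isZero_X M n fs i h).eq_of_src (𝟙 _) 0) z

/-- The comparison map. -/
noncomputable def Φ : ∀ (fs : List A) (p : ℕ) (i : ℤ), i + fs.length = p →
    (C M fs.length p →ₗ[A] (K M n fs).X i)
  | [], 0, i, h => ((HomologicalComplex.singleObjXIsoOfEq (ComplexShape.up ℤ) 0 M i
      (by simpa using h)).inv.hom).comp (LinearMap.proj (Fin.elim0 : Fin 0 → Fin 0))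
  | [], _ + 1, _, _ => 0
  | g :: fs, 0, i, h => (inlL M n g fs i).comp
      ((Φ fs 0 (i + 1) (by rw [List.length_cons] at h; omega)).comp (res (A := A) 0))
  | g :: fs, p + 1, i, h =>
      (-1 : A) ^ (p + 1) • (inlL M n g fs i).comp
        ((Φ fs (p + 1) (i + 1) (by rw [List.length_cons] at h; omega)).comp (res (A := A) (p + 1))) +
      (-1 : A) ^ p • (inrL M n g fs i).comp
        ((Φ fs p i (by rw [List.length_cons] at h; omega)).comp (hd (A := A) p))

/-- The comparison map back. -/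
noncomputable def Ψ : ∀ (fs : List A) (p : ℕ) (i : ℤ), i + fs.length = p →
    ((K M n fs).X i →ₗ[A] C M fs.length p)
  | [], 0, i, h => (LinearMap.pi fun _ : Fin 0 → Fin 0 => LinearMap.id).comp
      (HomologicalComplex.singleObjXIsoOfEq (ComplexShape.up ℤ) 0 M i
        (by simpa using h)).hom.hom
  | [], _ + 1, _, _ => 0
  | g :: fs, 0, i, h => (sec₀ (A := A)).comp
      ((Ψ fs 0 (i + 1) (by rw [List.length_cons] at h; omega)).comp (fstL M n g fs i))
  | g :: fs, p + 1, i, h => (sec (pw n (g :: fs)) p).comp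
      (LinearMap.prod
        ((-1 : A) ^ (p + 1) • (Ψ fs (p + 1) (i + 1) (by rw [List.length_cons] at h; omega)).comp
          (fstL M n g fs i))
        ((-1 : A) ^ p • (Ψ fs p i (by rw [List.length_cons] at h; omega)).comp
          (sndL M n g fs i)))

variable {M n}

theorem Φ_cons_zero (i : ℤ) (h : i + (g :: fs).length = (0 : ℕ)) (h' : i + 1 + fs.length = (0 : ℕ))
    (c : C M (fs.length + 1) 0) :
    Φ M n (g :: fs) 0 i h c = inlL M n g fs i (Φ M n fs 0 (i + 1) h' (res (A := A) 0 c)) := rfl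

theorem Φ_cons_succ (p : ℕ) (i : ℤ) (h : i + (g :: fs).length = (p + 1 : ℕ))
    (h' : i + 1 + fs.length = (p + 1 : ℕ)) (h'' : i + fs.length = (p : ℕ))
    (c : C M (fs.length + 1) (p + 1)) :
    Φ M n (g :: fs) (p + 1) i h c =
      (-1 : A) ^ (p + 1) •
        inlL M n g fs i (Φ M n fs (p + 1) (i + 1) h' (res (A := A) (p + 1) c)) +
      (-1 : A) ^ p • inrL M n g fs i (Φ M n fs p i h'' (hd (A := A) p c)) := rfl

theorem Ψ_cons_zero (i : ℤ) (h : i + (g :: fs).length = (0 : ℕ)) (h' : i + 1 + fs.length = (0 : ℕ))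
    (z : (K M n (g :: fs)).X i) :
    Ψ M n (g :: fs) 0 i h z = sec₀ (A := A) (Ψ M n fs 0 (i + 1) h' (fstL M n g fs i z)) := rfl

theorem Ψ_cons_succ (p : ℕ) (i : ℤ) (h : i + (g :: fs).length = (p + 1 : ℕ))
    (h' : i + 1 + fs.length = (p + 1 : ℕ)) (h'' : i + fs.length = (p : ℕ))
    (z : (K M n (g :: fs)).X i) :
    Ψ M n (g :: fs) (p + 1) i h z = sec (pw n (g :: fs)) p
      ((-1 : A) ^ (p + 1) • Ψ M n fs (p + 1) (i + 1) h' (fstL M n g fs i z),
        (-1 : A) ^ p • Ψ M n fs p i h'' (sndL M n g fs i z)) := rfl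

theorem neg_one_pow_sq (k : ℕ) : (-1 : A) ^ k * (-1 : A) ^ k = 1 := by
  rw [← mul_pow, neg_one_mul, neg_neg, one_pow]

theorem subsingleton_C_zero (p : ℕ) : Subsingleton (C M 0 (p + 1)) :=
  ⟨fun c c' => funext fun J => (J 0).elim0⟩

theorem Φ_Ψ : ∀ (fs : List A) (p : ℕ) (i : ℤ) (h : i + fs.length = p) (z : (K M n fs).X i),
    Φ M n fs p i h (Ψ M n fs p i h z) = z
  | [], 0, i, h, z => by
    have hi : i = 0 := by simpa using h
    exact ConcreteCategory.congr_hom
      (HomologicalComplex.singleObjXIsoOfEq (ComplexShape.up ℤ) 0 M i hi).hom_inv_id z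
  | [], p + 1, i, h, z => by
    have hi : i ≠ 0 := by simp at h; omega
    exact (ConcreteCategory.congr_hom ((HomologicalComplex.isZero_single_obj_X
      (ComplexShape.up ℤ) 0 M i hi).eq_of_src (𝟙 _) 0) z).symm
  | g :: fs, 0, i, h, z => by
    have hl : i + 1 + fs.length = ((0 : ℕ) : ℤ) := by rw [List.length_cons] at h; omega
    conv_rhs => rw [← cone_eq i z, eq_zero_of_lt M n (by omega) (sndL M n g fs i z)]
    rw [Φ_cons_zero i h hl, Ψ_cons_zero i h hl, res_sec₀, Φ_Ψ fs, map_zero, add_zero]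
  | g :: fs, p + 1, i, h, z => by
    have hl : i + 1 + fs.length = ((p + 1 : ℕ) : ℤ) := by rw [List.length_cons] at h; omega
    have hl' : i + fs.length = (p : ℤ) := by omega
    conv_rhs => rw [← cone_eq i z]
    rw [Φ_cons_succ p i h hl hl', Ψ_cons_succ p i h hl hl', res_sec, hd_sec]
    simp only [map_smul, Φ_Ψ fs, smul_smul, neg_one_pow_sq, one_smul]

theorem Φ_d : ∀ (fs : List A) (p : ℕ) (i : ℤ) (h : i + fs.length = p)
    (h1 : i + 1 + fs.length = (p + 1 : ℕ)) (c : C M fs.length p),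
    Φ M n fs (p + 1) (i + 1) h1 (d (pw n fs) p c) =
      ((K M n fs).d i (i + 1)).hom (Φ M n fs p i h c)
  | [], _, _, _, _, _ => rfl
  | g :: fs, 0, i, h, h1, c => by
    have hl : i + 1 + fs.length = ((0 : ℕ) : ℤ) := by rw [List.length_cons] at h; omega
    have hl1 : i + 1 + 1 + fs.length = ((0 + 1 : ℕ) : ℤ) := by omega
    rw [Φ_cons_succ 0 (i + 1) h1 hl1 hl, Φ_cons_zero i h hl, d_inl, res_d, pw_succ, hd_d_zero,
      pw_zero, Φ_d fs 0 (i + 1) hl, pow_one, pow_zero, one_smul, neg_one_smul, map_smul,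
      neg_add_eq_sub]
  | g :: fs, p + 1, i, h, h1, c => by
    have hl : i + 1 + fs.length = ((p + 1 : ℕ) : ℤ) := by rw [List.length_cons] at h; omega
    have hl' : i + fs.length = (p : ℤ) := by omega
    have hl1 : i + 1 + 1 + fs.length = ((p + 1 + 1 : ℕ) : ℤ) := by omega
    rw [Φ_cons_succ (p + 1) (i + 1) h1 hl1 hl, Φ_cons_succ p i h hl hl', map_add, map_smul,
      map_smul, d_inl, d_inr, res_d, pw_succ, hd_d, pw_succ, pw_zero,
      Φ_d fs (p + 1) (i + 1) hl, map_sub, map_smul, Φ_d fs p i hl', map_sub]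
    simp only [pow_succ, map_smul, smul_sub]
    module

theorem Ψ_d : ∀ (fs : List A) (p : ℕ) (i : ℤ) (h : i + fs.length = p)
    (h1 : i + 1 + fs.length = (p + 1 : ℕ)) (z : (K M n fs).X i),
    Ψ M n fs (p + 1) (i + 1) h1 (((K M n fs).d i (i + 1)).hom z) =
      d (pw n fs) p (Ψ M n fs p i h z)
  | [], _, _, _, _, _ => @Subsingleton.elim _ (subsingleton_C_zero _) _ _
  | g :: fs, 0, i, h, h1, z => by
    have hl : i + 1 + fs.length = ((0 : ℕ) : ℤ) := by rw [List.length_cons] at h; omega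
    have hl1 : i + 1 + 1 + fs.length = ((0 + 1 : ℕ) : ℤ) := by omega
    rw [Ψ_cons_succ 0 (i + 1) h1 hl1 hl, Ψ_cons_zero i h hl, d_sec₀, pw_succ, pw_zero, fst_d,
      snd_d, eq_zero_of_lt M n (by omega) (sndL M n g fs i z), map_zero, add_zero, map_neg,
      Ψ_d fs 0 (i + 1) hl, pow_one, pow_zero, one_smul, neg_one_smul, neg_neg, map_smul]
  | g :: fs, p + 1, i, h, h1, z => by
    have hl : i + 1 + fs.length = ((p + 1 : ℕ) : ℤ) := by rw [List.length_cons] at h; omega
    have hl' : i + fs.length = (p : ℤ) := by omega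
    have hl1 : i + 1 + 1 + fs.length = ((p + 1 + 1 : ℕ) : ℤ) := by omega
    rw [Ψ_cons_succ (p + 1) (i + 1) h1 hl1 hl, Ψ_cons_succ p i h hl hl', d_sec, pw_succ, pw_zero,
      fst_d, snd_d, map_neg, Ψ_d fs (p + 1) (i + 1) hl, map_add, map_smul, Ψ_d fs p i hl']
    simp only [map_smul, pow_succ]
    congr 2 <;> module

theorem mem_B_of_B_sub {fs : List A} : ∀ {p : ℕ} {c : C M fs.length p},
    c ∈ B (pw n fs) p → c ∈ Z (pw n fs) p :=
  fun {p} _ hc => B_le_Z (pw n fs) p hc

theorem sub_mem_B : ∀ (fs : List A) (p : ℕ) (i : ℤ) (h : i + fs.length = p) (c : C M fs.length p),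
    d (pw n fs) p c = 0 → c - Ψ M n fs p i h (Φ M n fs p i h c) ∈ B (pw n fs) p
  | [], 0, i, h, c, _ => by
    have hi : i = 0 := by simpa using h
    have : Ψ M n [] 0 i h (Φ M n [] 0 i h c) = c := funext fun J =>
      (ConcreteCategory.congr_hom
        (HomologicalComplex.singleObjXIsoOfEq (ComplexShape.up ℤ) 0 M i hi).inv_hom_id _).trans
        (congr_arg c (Subsingleton.elim _ _))
    rw [this, sub_self]
    exact zero_mem _
  | [], p + 1, i, h, c, _ => by
    rw [@Subsingleton.elim _ (subsingleton_C_zero (M := M) p) (c - _) 0]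
    exact zero_mem _
  | g :: fs, 0, i, h, c, hc => by
    have hl : i + 1 + fs.length = ((0 : ℕ) : ℤ) := by rw [List.length_cons] at h; omega
    have ha : d (pw n fs) 0 (res (A := A) 0 c) = 0 := by
      rw [← pw_succ (g := g), ← res_d]
      exact (congr_arg _ hc).trans (map_zero _)
    have := sub_mem_B fs 0 (i + 1) hl (res (A := A) 0 c) ha
    rw [B, Submodule.mem_bot, sub_eq_zero] at this
    rw [B, Submodule.mem_bot, Φ_cons_zero i h hl, Ψ_cons_zero i h hl, fst_inl, ← this]
    exact sub_eq_zero.mpr (sec₀_res (A := A) c).symm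
  | g :: fs, p + 1, i, h, c, hc => by
    have hl : i + 1 + fs.length = ((p + 1 : ℕ) : ℤ) := by rw [List.length_cons] at h; omega
    have hl' : i + fs.length = (p : ℤ) := by omega
    have hl1 : i + 1 + 1 + fs.length = ((p + 1 + 1 : ℕ) : ℤ) := by omega
    let e : ∀ q (j : ℤ) (hj : j + fs.length = (q : ℕ)), C M fs.length q →ₗ[A] C M fs.length q :=
      fun q j hj => LinearMap.id - (Ψ M n fs q j hj).comp (Φ M n fs q j hj)
    have heΦ : ∀ q (j : ℤ) hj x, Φ M n fs q j hj (e q j hj x) = 0 := fun q j hj x => by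
      change Φ M n fs q j hj (x - Ψ M n fs q j hj (Φ M n fs q j hj x)) = 0
      rw [map_sub, Φ_Ψ, sub_self]
    have hed : ∀ q (j : ℤ) (hj : j + fs.length = (q : ℕ)) (hj1 : j + 1 + fs.length = (q + 1 : ℕ)) x,
        d (pw n fs) q (e q j hj x) = e (q + 1) (j + 1) hj1 (d (pw n fs) q x) := fun q j hj hj1 x => by
      change d _ q (x - Ψ M n fs q j hj (Φ M n fs q j hj x)) = _
      rw [map_sub, ← Ψ_d fs q j hj hj1, ← Φ_d fs q j hj hj1]
      rfl
    have ha : d (pw n fs) (p + 1) (res (A := A) (p + 1) c) = 0 := by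
      rw [← pw_succ (g := g), ← res_d]
      exact (congr_arg _ hc).trans (map_zero _)
    have hb : g ^ n • res (A := A) (p + 1) c = d (pw n fs) p (hd (A := A) p c) := by
      have h2 := hd_d (pw n (g :: fs)) c
      rw [pw_succ, pw_zero] at h2
      exact sub_eq_zero.mp (h2.symm.trans ((congr_arg _ hc).trans (map_zero _)))
    obtain ⟨x, hx⟩ := sub_mem_B fs (p + 1) (i + 1) hl (res (A := A) (p + 1) c) ha
    have hx' : d (pw n fs) p (e p i hl' x) = e (p + 1) (i + 1) hl (res (A := A) (p + 1) c) := by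
      rw [hed p i hl' hl, hx]
      simp only [e, LinearMap.sub_apply, LinearMap.id_coe, id_eq, LinearMap.comp_apply, map_sub,
        Φ_Ψ, sub_self, sub_zero]
    have hy := sub_mem_B fs p i hl' (e p i hl' (hd (A := A) p c) - g ^ n • e p i hl' x) (by
      rw [map_sub, map_smul, hx', hed p i hl' hl, ← hb, map_smul, sub_self])
    rw [map_sub, map_smul, heΦ, heΦ, smul_zero, sub_zero, map_zero, sub_zero] at hy
    have hmain : sec (pw n (g :: fs)) p (e (p + 1) (i + 1) hl (res (A := A) (p + 1) c),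
        e p i hl' (hd (A := A) p c)) ∈ LinearMap.range (d (pw n (g :: fs)) p) := by
      cases p with
      | zero =>
        rw [B, Submodule.mem_bot, sub_eq_zero] at hy
        refine ⟨sec₀ (A := A) (e 0 i hl' x), ?_⟩
        refine (d_sec₀ (pw n (g :: fs)) _).trans ?_
        rw [pw_succ, pw_zero, hx', hy]
      | succ p =>
        obtain ⟨y, hy⟩ := hy
        refine ⟨sec (pw n (g :: fs)) p (e (p + 1) i hl' x, -y), ?_⟩
        refine (d_sec (pw n (g :: fs)) _ _).trans ?_
        rw [pw_succ, pw_zero, hx', map_neg, hy, sub_neg_eq_add, add_sub_cancel]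
    obtain ⟨w, hw⟩ := hmain
    refine ⟨KoszLib.h (A := A) p c + w, ?_⟩
    have hR := sec_eq (pw n (g :: fs)) c
    rw [R_succ, hc, map_zero, sub_zero] at hR
    have hΨΦ : Ψ M n (g :: fs) (p + 1) i h (Φ M n (g :: fs) (p + 1) i h c) =
        sec (pw n (g :: fs)) p
          (Ψ M n fs (p + 1) (i + 1) hl (Φ M n fs (p + 1) (i + 1) hl (res (A := A) (p + 1) c)),
            Ψ M n fs p i hl' (Φ M n fs p i hl' (hd (A := A) p c))) := by
      rw [Ψ_cons_succ p i h hl hl', Φ_cons_succ p i h hl hl']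
      simp only [map_add, map_smul, fst_inl, fst_inr, snd_inl, snd_inr, smul_zero, add_zero,
        zero_add, smul_smul, neg_one_pow_sq, one_smul]
    simp only [e, LinearMap.sub_apply, LinearMap.id_coe, id_eq, LinearMap.comp_apply] at hw
    rw [← Prod.mk_sub_mk, map_sub, hR] at hw
    rw [map_add, hw, hΨΦ]
    abel

end KoszLib
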