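import Groth.Agent.KoszLib.Vanish
import Groth.Agent.KoszLib.Inj

/-! # Depth and vanishing of the colimit of Koszul cohomology -/

universe u

set_option linter.unusedSectionVars false

open CategoryTheory CommAlgDim IsLocalRing

namespace KoszLib

variable {A : Type u} [CommRing A] {r : ℕ} (M : Type u) [AddCommGroup M] [Module A M]

/-- Cohomology of the powers dies in the colimit. -/
def LimVan (f : Fin r → A) (p : ℕ) : Prop :=
  ∀ (n : ℕ) (c : C M r p), d (fun i => f i ^ n) p c = 0 → ∃ k, mul f k p c ∈ B (fun i => f i ^ (n + k)) p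

variable {M}

theorem d_mul' (f : Fin r → A) (n k p : ℕ) (c : C M r p) :
    d (fun i => f i ^ (n + k)) p (mul f k p c) = mul f k (p + 1) (d (fun i => f i ^ n) p c) := by
  have := d_mul f (Nat.le_add_right n k) p c
  rwa [Nat.add_sub_cancel_left] at this

theorem mul_comp {N : Type u} [AddCommGroup N] [Module A N] (φ : M →ₗ[A] N) (f : Fin r → A) (k p : ℕ)
    (c : C M r p) : mul f k p (φ ∘ c) = φ ∘ mul f k p c := by
  funext J
  simp [mul_apply]

theorem mul_mem_B (f : Fin r → A) (n k : ℕ) : ∀ (p : ℕ) (c : C M r p), c ∈ B (fun i => f i ^ n) p →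
    mul f k p c ∈ B (fun i => f i ^ (n + k)) p
  | 0, c, hc => by rw [(Submodule.mem_bot _).mp hc, map_zero]; exact zero_mem _
  | p + 1, c, ⟨x, hx⟩ => ⟨mul f k p x, (d_mul' f n k p x).trans (congrArg _ hx)⟩

theorem comp_mem_B {N : Type u} [AddCommGroup N] [Module A N] (φ : M →ₗ[A] N) (f : Fin r → A) :
    ∀ (p : ℕ) (c : C M r p), c ∈ B f p → φ ∘ c ∈ B f p
  | 0, c, hc => by
    rw [(Submodule.mem_bot _).mp hc]
    exact (Submodule.mem_bot _).mpr (funext fun _ => map_zero φ)
  | p + 1, c, ⟨x, hx⟩ => ⟨φ ∘ x, (d_comp φ f p x).trans (congrArg (φ ∘ ·) hx)⟩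

/-- A long regular sequence kills the colimit. -/
theorem limVan_of_hasSeqIn [IsNoetherianRing A] [Module.Finite A M] (f : Fin r → A) {n p : ℕ}
    (h : HasSeqIn (Ideal.span (Set.range f)) M n) (hp : p < n) : LimVan M f p := by
  intro m c hc
  have h' : HasSeqIn (Ideal.span (Set.range fun i => f i ^ (m + 1))) M n := by
    refine hasSeqIn_of_forall_localization n M fun q _ hle => h.localization (Ideal.span_le.mpr ?_)
    rintro _ ⟨i, rfl⟩
    exact ‹q.IsPrime›.mem_of_pow_mem (m + 1) (hle (Ideal.subset_span ⟨i, rfl⟩))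
  obtain ⟨rs, hl, hm, hr⟩ := h'
  refine ⟨1, van_of_isWeaklyRegular _ rs M hr hm p (hl ▸ hp) _ ?_⟩
  rw [d_mul', hc, map_zero]

theorem limVan_quot {f : Fin r → A} {y : A} (hy : IsSMulRegular M y) {p : ℕ}
    (h0 : LimVan M f p) (h1 : LimVan M f (p + 1)) : LimVan (QuotSMulTop y M) f p := by
  intro m cb hcb
  let π : M →ₗ[A] QuotSMulTop y M := Submodule.mkQ _
  have hπ : ∀ x : M, π (y • x) = 0 := fun x =>
    (Submodule.Quotient.mk_eq_zero _).mpr (Submodule.smul_mem_pointwise_smul x y ⊤ trivial)
  choose c hc using fun J => Submodule.mkQ_surjective _ (cb J)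
  have hce : ∀ J, ∃ e : M, y • e = d (fun i => f i ^ m) p c J := fun J => by
    have : π (d (fun i => f i ^ m) p c J) = 0 := by
      refine (congr_fun (d_comp π (fun i => f i ^ m) p c) J).symm.trans ?_
      rw [show π ∘ c = cb from funext hc, hcb]
      rfl
    obtain ⟨x, -, hx⟩ := (Submodule.mem_smul_pointwise_iff_exists _ _ _).mp
      ((Submodule.Quotient.mk_eq_zero _).mp this)
    exact ⟨x, hx⟩
  choose e he using hce
  have hde : d (fun i => f i ^ m) (p + 1) e = 0 := funext fun J => hy (by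
    change y • d (fun i => f i ^ m) (p + 1) e J = y • (0 : M)
    rw [← Pi.smul_apply, ← map_smul, show y • e = d (fun i => f i ^ m) p c from funext he, d_d, Pi.zero_apply,
      smul_zero])
  obtain ⟨k, x, hx⟩ := h1 m e hde
  have hcyc : d (fun i => f i ^ (m + k)) p (mul f k p c - y • x) = 0 := by
    rw [map_sub, map_smul, hx, d_mul', ← map_smul, ← map_sub,
      show d (fun i => f i ^ m) p c - y • e = 0 from sub_eq_zero.mpr (funext he).symm, map_zero]
  obtain ⟨k', hb⟩ := h0 _ _ hcyc
  refine ⟨k' + k, ?_⟩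
  have hrw : mul f k p cb = π ∘ (mul f k p c - y • x) := funext fun J => by
    change mul f k p cb J = π (mul f k p c J - y • x J)
    rw [map_sub, hπ, sub_zero, mul_apply, mul_apply, map_smul]
    exact congrArg _ (hc J).symm
  rw [← mul_mul, hrw, mul_comp]
  have := comp_mem_B π _ p _ hb
  rwa [Nat.add_assoc, Nat.add_comm k k'] at this

/-- Vanishing of the colimit below `n` gives a regular sequence of length `n`. -/
theorem hasSeqIn_of_limVan [IsNoetherianRing A] (f : Fin r → A) :
    ∀ (n : ℕ) (M : Type u) [AddCommGroup M] [Module A M] [Module.Finite A M],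
      (∀ p < n, LimVan M f p) → HasSeqIn (Ideal.span (Set.range f)) M n
  | 0, _, _, _, _, _ => hasSeqIn_zero _
  | n + 1, M, _, _, _, h => by
    obtain ⟨y, hyI, hy⟩ := exists_isSMulRegular_mem (M := M) (I := Ideal.span (Set.range f)) fun q hq hle => by
      obtain ⟨hqp, x, rfl⟩ := isAssociatedPrime_iff.mp hq
      have hx : ∀ j, f j • x = 0 := fun j => Submodule.mem_colon_singleton.mp (hle (Ideal.subset_span ⟨j, rfl⟩))
      obtain ⟨k, hk⟩ := h 0 (Nat.succ_pos n) 1 (fun _ => x) (funext fun J => by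
        rw [d_zero_apply, pow_one]; exact hx _)
      have hx0 : x = 0 := by
        have := congr_fun ((Submodule.mem_bot _).mp hk) Fin.elim0
        rwa [mul_apply, show img (Fin.elim0 : Fin 0 → Fin r) = ∅ from rfl, Finset.prod_empty, one_pow,
          one_smul] at this
      subst hx0
      exact hqp.ne_top (by simp [Ideal.eq_top_iff_one, Submodule.mem_colon_singleton])
    exact hasSeqIn_succ_of_cons hyI hy (hasSeqIn_of_limVan f n _
      fun p hp => limVan_quot hy (h p (by omega)) (h (p + 1) (by omega)))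

theorem hasSeqIn_iff_limVan [IsNoetherianRing A] [Module.Finite A M] (f : Fin r → A) (n : ℕ) :
    HasSeqIn (Ideal.span (Set.range f)) M n ↔ ∀ p < n, LimVan M f p :=
  ⟨fun h _ hp => limVan_of_hasSeqIn f h hp, hasSeqIn_of_limVan f n M⟩

theorem directedSystem_koszulHPow (N : ModuleCat.{u} A) (fs : List A) (p : ℕ) :
    DirectedSystem (fun n : ℕ => (CohIII.koszulHPow fs N p n : Type u)) fun n m h =>
      (HomologicalComplex.homologyMap (CohIII.koszulTrans N n m h fs) ((p : ℤ) - fs.length)).hom where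
  map_self n y := by
    obtain ⟨y, rfl⟩ := (powEquiv N n fs p).surjective y
    obtain ⟨c, rfl⟩ := Submodule.Quotient.mk_surjective _ y
    refine (powEquiv_trH N le_rfl fs p _).symm.trans (congrArg _ ?_)
    refine (trH_mk fs.get le_rfl p c).trans (congrArg _ (Subtype.ext (funext fun J => ?_)))
    change mul fs.get (n - n) p c.1 J = c.1 J
    rw [Nat.sub_self, mul_apply, pow_zero, one_smul]
  map_map k j i hij hjk y := by
    obtain ⟨y, rfl⟩ := (powEquiv N i fs p).surjective y
    obtain ⟨c, rfl⟩ := Submodule.Quotient.mk_surjective _ y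
    rw [← powEquiv_trH N hij fs p]
    refine (powEquiv_trH N hjk fs p _).symm.trans ((congrArg _ ?_).trans (powEquiv_trH N (hij.trans hjk) fs p _))
    refine (congrArg _ (trH_mk fs.get hij p c)).trans ((trH_mk fs.get hjk p _).trans
      (Eq.trans ?_ (trH_mk fs.get (hij.trans hjk) p c).symm))
    refine congrArg _ (Subtype.ext ?_)
    change mul fs.get (k - j) p (mul fs.get (j - i) p c.1) = mul fs.get (k - i) p c.1
    rw [mul_mul, show k - j + (j - i) = k - i by omega]

theorem subsingleton_koszulHLim_iff (N : ModuleCat.{u} A) (fs : List A) (p : ℕ) :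
    Subsingleton (CohIII.koszulHLim fs N p) ↔ LimVan N fs.get p := by
  refine ⟨fun h n c hc => ?_, fun h => subsingleton_lim N fs p h⟩
  haveI := directedSystem_koszulHPow N fs p
  haveI : Subsingleton (Module.DirectLimit (fun n : ℕ => (CohIII.koszulHPow fs N p n : Type u)) fun n m h =>
      (HomologicalComplex.homologyMap (CohIII.koszulTrans N n m h fs) ((p : ℤ) - fs.length)).hom) := h
  obtain ⟨m, hm, h0⟩ := Module.DirectLimit.of.zero_exact
    (Subsingleton.elim (Module.DirectLimit.of A ℕ _ _ n (powEquiv N n fs p (Submodule.Quotient.mk ⟨c, mem_Z.mpr hc⟩)) :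
      Module.DirectLimit (fun n : ℕ => (CohIII.koszulHPow fs N p n : Type u)) fun n m h =>
      (HomologicalComplex.homologyMap (CohIII.koszulTrans N n m h fs) ((p : ℤ) - fs.length)).hom) 0)
  obtain ⟨k, rfl⟩ := Nat.exists_eq_add_of_le hm
  refine ⟨k, ?_⟩
  have h1 := (toH_eq_zero_iff N (n + k) fs p _).mp ((powEquiv_trH N hm fs p _).trans h0)
  change mul fs.get (n + k - n) p c ∈ _ at h1
  rwa [Nat.add_sub_cancel_left] at h1

end KoszLib
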