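import Groth.Agent.KoszLib.Cone
import Mathlib.Algebra.Colimit.Module

/-!
# Koszul cohomology through the full-tuple model
-/

universe u

open CategoryTheory CategoryTheory.Limits CochainComplex CochainComplex.HomComplex

namespace KoszLib

variable {A : Type u} [CommRing A] {r : ℕ}

section Mul

variable {M : Type u} [AddCommGroup M] [Module A M]

/-- Multiplication by powers of the products of the occurring elements. -/
def mul (f : Fin r → A) (k p : ℕ) : C M r p →ₗ[A] C M r p where
  toFun c J := (∏ x ∈ img J, f x) ^ k • c J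
  map_add' c c' := by funext J; simp
  map_smul' a c := by funext J; simp [smul_comm a]

theorem mul_apply (f : Fin r → A) (k p : ℕ) (c : C M r p) (J : Fin p → Fin r) :
    mul f k p c J = (∏ x ∈ img J, f x) ^ k • c J := rfl

theorem res_mul (f : Fin (r + 1) → A) (k p : ℕ) (c : C M (r + 1) p) :
    res (A := A) p (mul f k p c) = mul (f ∘ Fin.succ) k p (res (A := A) p c) := by
  funext J
  rw [res_apply, mul_apply, mul_apply, res_apply, img_succ, Finset.prod_map]
  rfl

theorem hd_mul (f : Fin (r + 1) → A) (k p : ℕ) (c : C M (r + 1) (p + 1)) :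
    hd (A := A) p (mul f k (p + 1) c) = f 0 ^ k • mul (f ∘ Fin.succ) k p (hd (A := A) p c) := by
  funext J
  rw [hd_apply, mul_apply, img_cons, Finset.prod_insert (zero_notMem_img_succ J), mul_pow, mul_smul,
    Pi.smul_apply, mul_apply, hd_apply, img_succ, Finset.prod_map]
  rfl

theorem d_mul (f : Fin r → A) {n m : ℕ} (hnm : n ≤ m) (p : ℕ) (c : C M r p) :
    d (fun i => f i ^ m) p (mul f (m - n) p c) =
      mul f (m - n) (p + 1) (d (fun i => f i ^ n) p c) := by
  funext J
  simp only [d_apply, mul_apply, Finset.smul_sum, smul_smul, W_pow]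
  refine Finset.sum_congr rfl fun k _ => ?_
  congr 1
  have hp : W f (img J) (img (J ∘ k.succAbove)) * ∏ x ∈ img (J ∘ k.succAbove), f x =
      ∏ x ∈ img J, f x := Finset.prod_sdiff (img_comp_subset J _)
  rw [← hp, mul_pow]
  obtain ⟨l, rfl⟩ := Nat.exists_eq_add_of_le hnm
  rw [Nat.add_sub_cancel_left, pow_add (W f _ _) n l]
  ring

/-- The transition map on cohomology. -/
def trH (f : Fin r → A) {n m : ℕ} (hnm : n ≤ m) (p : ℕ) :
    H M (fun i => f i ^ n) p →ₗ[A] H M (fun i => f i ^ m) p :=
  Submodule.mapQ _ _ ((mul f (m - n) p).restrict fun c hc => by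
    rw [mem_Z, d_mul f hnm, mem_Z.mp hc, map_zero]) (by
    rintro ⟨c, hcZ⟩ hc
    cases p with
    | zero =>
      change mul f _ 0 c ∈ (⊥ : Submodule A _)
      rw [Submodule.mem_bot, show c = 0 from hc, map_zero]
    | succ p =>
      obtain ⟨x, hx⟩ := hc
      exact ⟨mul f (m - n) p x, (d_mul f hnm p x).trans (congr_arg _ hx)⟩)

theorem trH_mk (f : Fin r → A) {n m : ℕ} (hnm : n ≤ m) (p : ℕ)
    (c : Z (M := M) (fun i => f i ^ n) p) :
    trH (M := M) f hnm p (Submodule.Quotient.mk c) = Submodule.Quotient.mk ⟨mul f (m - n) p c.1, by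
      rw [mem_Z, d_mul f hnm, mem_Z.mp c.2, map_zero]⟩ := rfl

end Mul

variable (M : ModuleCat.{u} A) (n m : ℕ) (hnm : n ≤ m)

theorem trans_inl (g : A) (fs : List A) (i : ℤ) (x : (K M n fs).X (i + 1)) :
    ((CohIII.koszulTrans M n m hnm (g :: fs)).f i).hom (inlL M n g fs i x) =
      inlL M m g fs i (((CohIII.koszulTrans M n m hnm fs).f (i + 1)).hom x) :=
  have e : (mappingCone.inl (phi M n g fs)).v (i + 1) i (by omega) ≫
      (CohIII.koszulTrans M n m hnm (g :: fs)).f i =
      (CohIII.koszulTrans M n m hnm fs).f (i + 1) ≫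
        (mappingCone.inl (phi M m g fs)).v (i + 1) i (by omega) := by
    simp only [CohIII.koszulTrans, mappingCone.map]
    refine (mappingCone.inl_v_desc_f _ _ _ _ (i + 1) i (by omega)).trans ?_
    exact (Cochain.zero_cochain_comp_v _ _ _ _ _).trans (by simp; rfl)
  ConcreteCategory.congr_hom e x

theorem trans_inr (g : A) (fs : List A) (i : ℤ) (y : (K M n fs).X i) :
    ((CohIII.koszulTrans M n m hnm (g :: fs)).f i).hom (inrL M n g fs i y) =
      inrL M m g fs i (g ^ (m - n) • ((CohIII.koszulTrans M n m hnm fs).f i).hom y) :=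
  have e : (mappingCone.inr (phi M n g fs)).f i ≫
      (CohIII.koszulTrans M n m hnm (g :: fs)).f i =
      (g ^ (m - n) • CohIII.koszulTrans M n m hnm fs).f i ≫
        (mappingCone.inr (phi M m g fs)).f i :=
    by
      simp only [CohIII.koszulTrans, mappingCone.map]
      exact mappingCone.inr_f_desc_f _ _ _ _ i
  ConcreteCategory.congr_hom e y

theorem Φ_mul : ∀ (fs : List A) (p : ℕ) (i : ℤ) (h : i + fs.length = p) (c : C M fs.length p),
    Φ M m fs p i h (mul fs.get (m - n) p c) =
      ((CohIII.koszulTrans M n m hnm fs).f i).hom (Φ M n fs p i h c)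
  | [], 0, i, h, c => by
    change Φ M m [] 0 i h (mul _ _ 0 c) = Φ M n [] 0 i h c
    have : mul (List.get ([] : List A)) (m - n) 0 c = c := funext fun J => by
      rw [mul_apply, show img J = ∅ from rfl, Finset.prod_empty, one_pow, one_smul]
    rw [this]
    rfl
  | [], _ + 1, _, _, _ => (map_zero (ModuleCat.Hom.hom _)).symm
  | g :: fs, 0, i, h, c => by
    have hl : i + 1 + fs.length = ((0 : ℕ) : ℤ) := by rw [List.length_cons] at h; omega
    rw [Φ_cons_zero i h hl, Φ_cons_zero i h hl, trans_inl]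
    refine congr_arg _ ?_
    rw [← Φ_mul fs 0 (i + 1) hl]
    exact congr_arg _ (res_mul _ _ _ c)
  | g :: fs, p + 1, i, h, c => by
    have hl : i + 1 + fs.length = ((p + 1 : ℕ) : ℤ) := by rw [List.length_cons] at h; omega
    have hl' : i + fs.length = (p : ℤ) := by omega
    rw [Φ_cons_succ p i h hl hl', Φ_cons_succ p i h hl hl', map_add, map_smul, map_smul, trans_inl,
      trans_inr, ← Φ_mul fs (p + 1) (i + 1) hl, ← Φ_mul fs p i hl', ← map_smul (Φ M m fs p i hl')]
    rw [show res (A := A) (p + 1) (mul (List.get (g :: fs)) (m - n) (p + 1) c) =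
      mul fs.get (m - n) (p + 1) (res (A := A) (p + 1) c) from res_mul _ _ _ c,
      show hd (A := A) p (mul (List.get (g :: fs)) (m - n) (p + 1) c) =
      g ^ (m - n) • mul fs.get (m - n) p (hd (A := A) p c) from hd_mul _ _ _ c]

variable (fs : List A) (p : ℕ)

/-- The degree in which `H^p` sits. -/
abbrev deg : ℤ := (p : ℤ) - fs.length

omit M n m hnm in
theorem deg_add : deg fs p + fs.length = (p : ℕ) := by simp [deg]

theorem deg_add' : deg fs p + 1 + fs.length = (p + 1 : ℕ) := by simp [deg]; omega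

/-- A cocycle as a cycle of the cone complex. -/
noncomputable def toCyc : Z (M := M) (pw n fs) p →ₗ[A] ((K M n fs).cycles (deg fs p) : Type u) :=
  ((K M n fs).liftCycles (A := ModuleCat.of A (Z (M := M) (pw n fs) p))
    (ModuleCat.ofHom ((Φ M n fs p (deg fs p) (deg_add fs p)).comp (Submodule.subtype _)))
    (deg fs p + 1) (by simp) (by
      refine ModuleCat.hom_ext (LinearMap.ext fun c => ?_)
      exact ((Φ_d fs p (deg fs p) (deg_add fs p) (deg_add' fs p) c.1).symm.trans
        ((congr_arg _ (mem_Z.mp c.2)).trans (map_zero _))))).hom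

theorem Φ_d' (q : ℕ) {i j : ℤ} (hij : i + 1 = j) (h : i + fs.length = q)
    (h1 : j + fs.length = (q + 1 : ℕ)) (c : C M fs.length q) :
    Φ M n fs (q + 1) j h1 (d (pw n fs) q c) = ((K M n fs).d i j).hom (Φ M n fs q i h c) := by
  subst hij
  exact Φ_d fs q i h h1 c

theorem Ψ_d' (q : ℕ) {i j : ℤ} (hij : i + 1 = j) (h : i + fs.length = q)
    (h1 : j + fs.length = (q + 1 : ℕ)) (z : (K M n fs).X i) :
    Ψ M n fs (q + 1) j h1 (((K M n fs).d i j).hom z) = d (pw n fs) q (Ψ M n fs q i h z) := by
  subst hij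
  exact Ψ_d fs q i h h1 z

theorem iCycles_toCyc (c : Z (M := M) (pw n fs) p) :
    ((K M n fs).iCycles (deg fs p)).hom (toCyc M n fs p c) =
      Φ M n fs p (deg fs p) (deg_add fs p) c.1 :=
  ConcreteCategory.congr_hom (HomologicalComplex.liftCycles_i (K M n fs) (ModuleCat.ofHom
      ((Φ M n fs p (deg fs p) (deg_add fs p)).comp (Submodule.subtype _))) (deg fs p + 1) (by simp)
    (by
      refine ModuleCat.hom_ext (LinearMap.ext fun c => ?_)
      exact ((Φ_d fs p (deg fs p) (deg_add fs p) (deg_add' fs p) c.1).symm.trans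
        ((congr_arg _ (mem_Z.mp c.2)).trans (map_zero _))))) c

theorem iCycles_injective (i : ℤ) : Function.Injective ((K M n fs).iCycles i).hom :=
  (ModuleCat.mono_iff_injective _).mp inferInstance

/-- The class of a cocycle. -/
noncomputable def toH : Z (M := M) (pw n fs) p →ₗ[A]
    (CohIII.koszulHPow fs M p n : Type u) :=
  ((K M n fs).homologyπ (deg fs p)).hom.comp (toCyc M n fs p)

theorem homologyπ_eq_zero_iff (i j : ℤ) (hij : (ComplexShape.up ℤ).prev j = i)
    (z : ((K M n fs).cycles j : Type u)) :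
    ((K M n fs).homologyπ j).hom z = 0 ↔ ∃ x, ((K M n fs).toCycles i j).hom x = z := by
  have hex := ShortComplex.exact_of_g_is_cokernel
    (ShortComplex.mk ((K M n fs).toCycles i j) ((K M n fs).homologyπ j)
      ((K M n fs).toCycles_comp_homologyπ i j)) ((K M n fs).homologyIsCokernel i j hij)
  constructor
  · exact (ShortComplex.moduleCat_exact_iff _).mp hex z
  · rintro ⟨x, rfl⟩
    exact ConcreteCategory.congr_hom ((K M n fs).toCycles_comp_homologyπ i j) x

theorem toH_eq_zero_iff (c : Z (M := M) (pw n fs) p) :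
    toH M n fs p c = 0 ↔ c.1 ∈ B (pw n fs) p := by
  change ((K M n fs).homologyπ (deg fs p)).hom (toCyc M n fs p c) = 0 ↔ _
  rw [homologyπ_eq_zero_iff M n fs (deg fs p - 1) _ (by simp)]
  have hi : ∀ x, ((K M n fs).iCycles (deg fs p)).hom
      (((K M n fs).toCycles (deg fs p - 1) (deg fs p)).hom x) =
      ((K M n fs).d (deg fs p - 1) (deg fs p)).hom x :=
    fun x => ConcreteCategory.congr_hom ((K M n fs).toCycles_i _ _) x
  constructor
  · rintro ⟨x, hx⟩
    have h1 := sub_mem_B fs p (deg fs p) (deg_add fs p) c.1 (mem_Z.mp c.2)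
    rw [← iCycles_toCyc, ← hx, hi] at h1
    cases p with
    | zero =>
      rw [eq_zero_of_lt M n (by simp only [deg]; omega) x, map_zero, map_zero, sub_zero] at h1
      exact h1
    | succ p =>
      rw [Ψ_d' M n fs p (sub_add_cancel _ _) (by simp only [deg]; omega)] at h1
      have := add_mem h1 (LinearMap.mem_range_self (d (pw n fs) p)
        (Ψ M n fs p (deg fs (p + 1) - 1) (by simp only [deg]; omega) x))
      rwa [sub_add_cancel] at this
  · intro hc
    cases p with
    | zero =>
      refine ⟨0, iCycles_injective M n fs _ ?_⟩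
      rw [map_zero, map_zero, iCycles_toCyc, show c.1 = 0 from hc, map_zero]
    | succ p =>
      obtain ⟨x, hx⟩ := hc
      refine ⟨Φ M n fs p (deg fs (p + 1) - 1) (by simp only [deg]; omega) x,
        iCycles_injective M n fs _ ?_⟩
      rw [hi, iCycles_toCyc, ← hx]
      exact (Φ_d' M n fs p (sub_add_cancel _ _) (by simp only [deg]; omega) (deg_add fs _) x).symm

theorem toH_surjective : Function.Surjective (toH M n fs p) := fun y => by
  obtain ⟨z, rfl⟩ := (ModuleCat.epi_iff_surjective ((K M n fs).homologyπ (deg fs p))).mp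
    inferInstance y
  refine ⟨⟨Ψ M n fs p (deg fs p) (deg_add fs p) (((K M n fs).iCycles (deg fs p)).hom z), ?_⟩, ?_⟩
  · rw [mem_Z, ← Ψ_d fs p (deg fs p) (deg_add fs p) (deg_add' fs p)]
    exact (congr_arg _ (ConcreteCategory.congr_hom ((K M n fs).iCycles_d _ _) z)).trans (map_zero _)
  · refine congr_arg ((K M n fs).homologyπ (deg fs p)).hom (iCycles_injective M n fs _ ?_)
    rw [iCycles_toCyc, Φ_Ψ]

/-- Koszul cohomology of powers through the model. -/
noncomputable def powEquiv :
    H M (pw n fs) p ≃ₗ[A] (CohIII.koszulHPow fs M p n : Type u) :=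
  LinearEquiv.ofBijective (Submodule.liftQ _ (toH M n fs p) fun c hc =>
      LinearMap.mem_ker.mpr ((toH_eq_zero_iff M n fs p c).mpr hc))
    ⟨by
      refine (injective_iff_map_eq_zero _).mpr fun y => ?_
      obtain ⟨c, rfl⟩ := Submodule.Quotient.mk_surjective _ y
      intro hc
      exact (Submodule.Quotient.mk_eq_zero _).mpr ((toH_eq_zero_iff M n fs p c).mp hc),
    fun y => ⟨Submodule.Quotient.mk (toH_surjective M n fs p y).choose,
      (toH_surjective M n fs p y).choose_spec⟩⟩

theorem powEquiv_mk (c : Z (M := M) (pw n fs) p) :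
    powEquiv M n fs p (Submodule.Quotient.mk c) = toH M n fs p c := rfl

variable {n m}

theorem powEquiv_trH (y : H M (pw n fs) p) :
    powEquiv M m fs p (trH (M := M) fs.get hnm p y) =
      (HomologicalComplex.homologyMap (CohIII.koszulTrans M n m hnm fs) (deg fs p)).hom
        (powEquiv M n fs p y) := by
  obtain ⟨c, rfl⟩ := Submodule.Quotient.mk_surjective _ y
  rw [powEquiv_mk]
  refine Eq.trans ?_ (ConcreteCategory.congr_hom (HomologicalComplex.homologyπ_naturality
    (CohIII.koszulTrans M n m hnm fs) (deg fs p)) (toCyc M n fs p c)).symm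
  refine congr_arg ((K M m fs).homologyπ (deg fs p)).hom (iCycles_injective M m fs _ ?_)
  refine ((iCycles_toCyc M m fs p _).trans (Φ_mul M n m hnm fs p _ (deg_add fs p) c.1)).trans ?_
  rw [← iCycles_toCyc]
  exact (ConcreteCategory.congr_hom
    (HomologicalComplex.cyclesMap_i (CohIII.koszulTrans M n m hnm fs) (deg fs p)) _).symm

end KoszLib
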