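import Groth.Agent.KoszLib.Homology

/-!
# Colimits of Koszul cohomology as cohomology of a localised family
-/

universe u

open CategoryTheory

namespace KoszLib

variable {A : Type u} [CommRing A] {r : ℕ} {M : Type u} [AddCommGroup M] [Module A M]

theorem mul_mul (f : Fin r → A) (a b p : ℕ) (c : C M r p) :
    mul f a p (mul f b p c) = mul f (a + b) p c := by
  funext J
  rw [mul_apply, mul_apply, mul_apply, smul_smul, pow_add]

/-- A family of localisations of `M` along the products of the elements indexed by a tuple. -/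
structure LimSys (f : Fin r → A) (M : Type u) [AddCommGroup M] [Module A M]
    (Q : ∀ p, (Fin p → Fin r) → Type u) [∀ p J, AddCommGroup (Q p J)] [∀ p J, Module A (Q p J)] where
  /-- `x ↦ x / f_J ^ n`. -/
  ψ : ∀ (_n : ℕ) {p : ℕ} (J : Fin p → Fin r), M →ₗ[A] Q p J
  /-- Restriction from a face. -/
  rs : ∀ {p : ℕ} (J : Fin (p + 1) → Fin r) (k : Fin (p + 1)),
    Q p (J ∘ k.succAbove) →ₗ[A] Q (p + 1) J
  surj : ∀ {p : ℕ} (J : Fin p → Fin r) (y : Q p J), ∃ n x, ψ n J x = y
  zero : ∀ {p : ℕ} (J : Fin p → Fin r) (n : ℕ) (x : M),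
    ψ n J x = 0 → ∃ k, (∏ a ∈ img J, f a) ^ k • x = 0
  trans : ∀ {p : ℕ} (J : Fin p → Fin r) (n k : ℕ) (x : M),
    ψ (n + k) J ((∏ a ∈ img J, f a) ^ k • x) = ψ n J x
  res : ∀ {p : ℕ} (J : Fin (p + 1) → Fin r) (k : Fin (p + 1)) (n : ℕ) (x : M),
    rs J k (ψ n (J ∘ k.succAbove) x) = ψ n J (W f (img J) (img (J ∘ k.succAbove)) ^ n • x)

variable {f : Fin r → A} {Q : ∀ p, (Fin p → Fin r) → Type u} [∀ p J, AddCommGroup (Q p J)]
  [∀ p J, Module A (Q p J)] (S : LimSys f M Q)

namespace LimSys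

/-- Cochains of the family. -/
abbrev CQ (_S : LimSys f M Q) (p : ℕ) : Type u := ∀ J : Fin p → Fin r, Q p J

/-- Differential of the family. -/
def dQ (p : ℕ) : S.CQ p →ₗ[A] S.CQ (p + 1) where
  toFun c J := ∑ k : Fin (p + 1), (-1 : A) ^ (k : ℕ) • S.rs J k (c (J ∘ k.succAbove))
  map_add' c c' := by funext J; simp [Finset.sum_add_distrib]
  map_smul' a c := by funext J; simp [Finset.smul_sum, smul_comm a]

theorem dQ_apply (p : ℕ) (c : S.CQ p) (J : Fin (p + 1) → Fin r) :
    S.dQ p c J = ∑ k : Fin (p + 1), (-1 : A) ^ (k : ℕ) • S.rs J k (c (J ∘ k.succAbove)) := rfl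

/-- Cocycles of the family. -/
def ZQ (p : ℕ) : Submodule A (S.CQ p) := LinearMap.ker (S.dQ p)

/-- Coboundaries of the family. -/
def BQ : ∀ p, Submodule A (S.CQ p)
  | 0 => ⊥
  | p + 1 => LinearMap.range (S.dQ p)

/-- Cohomology of the family. -/
abbrev HQ (p : ℕ) : Type u := ↥(S.ZQ p) ⧸ (S.BQ p).comap (S.ZQ p).subtype

/-- Numerators to fractions. -/
def Ω (n p : ℕ) : C M r p →ₗ[A] S.CQ p :=
  LinearMap.pi fun J => (S.ψ n J).comp (LinearMap.proj J)

theorem Ω_apply (n p : ℕ) (c : C M r p) (J : Fin p → Fin r) : S.Ω n p c J = S.ψ n J (c J) := rfl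

theorem Ω_d (n p : ℕ) (c : C M r p) :
    S.Ω n (p + 1) (d (fun i => f i ^ n) p c) = S.dQ p (S.Ω n p c) := by
  funext J
  simp only [Ω_apply, dQ_apply, d_apply, map_sum, W_pow]
  refine Finset.sum_congr rfl fun k _ => ?_
  rw [mul_smul, map_smul, S.res]

theorem Ω_mul {n m : ℕ} (hnm : n ≤ m) (p : ℕ) (c : C M r p) :
    S.Ω m p (mul f (m - n) p c) = S.Ω n p c := by
  obtain ⟨k, rfl⟩ := Nat.exists_eq_add_of_le hnm
  funext J
  rw [Nat.add_sub_cancel_left, Ω_apply, Ω_apply, mul_apply, S.trans]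

theorem exists_Ω_eq {p : ℕ} (y : S.CQ p) : ∃ n c, S.Ω n p c = y := by
  choose n x hx using fun J => S.surj J (y J)
  obtain ⟨N, hN⟩ : ∃ N, ∀ J, n J ≤ N :=
    ⟨Finset.univ.sup n, fun J => Finset.le_sup (Finset.mem_univ J)⟩
  refine ⟨N, fun J => (∏ a ∈ img J, f a) ^ (N - n J) • x J, funext fun J => ?_⟩
  rw [Ω_apply, ← hx J]
  conv_lhs => enter [1]; rw [show N = n J + (N - n J) by have := hN J; omega]
  convert S.trans J (n J) (N - n J) (x J) using 3 <;> omega

theorem exists_mul_eq_zero {n p : ℕ} {c : C M r p} (hc : S.Ω n p c = 0) :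
    ∃ k, mul f k p c = 0 := by
  choose k hk using fun J => S.zero J n (c J) (congr_fun hc J)
  refine ⟨Finset.univ.sup k, funext fun J => ?_⟩
  obtain ⟨l, hl⟩ := Nat.exists_eq_add_of_le (Finset.le_sup (f := k) (Finset.mem_univ J))
  rw [mul_apply, hl, pow_add, mul_comm, mul_smul, hk, smul_zero]
  rfl

/-- The map on cohomology. -/
def ΩH (n p : ℕ) : H M (fun i => f i ^ n) p →ₗ[A] S.HQ p :=
  Submodule.mapQ _ _ ((S.Ω n p).restrict fun c hc => by
    refine LinearMap.mem_ker.mpr ?_
    rw [← Ω_d, mem_Z.mp hc, map_zero]) (by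
    rintro ⟨c, hcZ⟩ hc
    cases p with
    | zero =>
      change S.Ω n 0 c ∈ (⊥ : Submodule A _)
      rw [Submodule.mem_bot, show c = 0 from hc, map_zero]
    | succ p =>
      obtain ⟨x, hx⟩ := hc
      exact ⟨S.Ω n p x, (S.Ω_d n p x).symm.trans (congr_arg _ hx)⟩)

theorem ΩH_trH {n m : ℕ} (hnm : n ≤ m) (p : ℕ) (y : H M (fun i => f i ^ n) p) :
    S.ΩH m p (trH (M := M) f hnm p y) = S.ΩH n p y := by
  obtain ⟨c, rfl⟩ := Submodule.Quotient.mk_surjective _ y
  rw [trH_mk]
  exact congr_arg Submodule.Quotient.mk (Subtype.ext (S.Ω_mul hnm p c.1))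

variable (p : ℕ)

/-- The colimit of the cohomology of the powers. -/
abbrev HLim : Type u :=
  Module.DirectLimit (fun n : ℕ => H M (fun i => f i ^ n) p) (fun _ _ h => trH (M := M) f h p)

/-- Colimit to the cohomology of the family. -/
noncomputable def toHQ : HLim (f := f) (M := M) p →ₗ[A] S.HQ p :=
  Module.DirectLimit.lift A ℕ _ _ (fun n => S.ΩH n p) fun _ _ h y => S.ΩH_trH h p y

theorem toHQ_bijective : Function.Bijective (S.toHQ p) := by
  constructor
  · intro a b hab
    obtain ⟨n, y, y', rfl, rfl⟩ := Module.DirectLimit.exists_of₂ a b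
    obtain ⟨c, hc⟩ := Submodule.Quotient.mk_surjective _ (y - y')
    rw [toHQ, Module.DirectLimit.lift_of, Module.DirectLimit.lift_of, ← sub_eq_zero, ← map_sub,
      ← hc] at hab
    have hz := hab
    suffices h : ∃ m, ∃ h : n ≤ m, trH (M := M) f h p (Submodule.Quotient.mk c) = 0 by
      obtain ⟨m, hm, h0⟩ := h
      rw [hc, map_sub, sub_eq_zero] at h0
      rw [← Module.DirectLimit.of_f (hij := hm), h0, Module.DirectLimit.of_f]
    have hb : S.Ω n p c.1 ∈ S.BQ p := (Submodule.Quotient.mk_eq_zero ((S.BQ p).comap (S.ZQ p).subtype)).mp hz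
    cases p with
    | zero =>
      obtain ⟨k, hk⟩ := S.exists_mul_eq_zero (n := n) (show S.Ω n 0 c.1 = 0 from hb)
      refine ⟨n + k, Nat.le_add_right _ _, ?_⟩
      rw [trH_mk, Submodule.Quotient.mk_eq_zero]
      change mul f _ 0 c.1 ∈ (⊥ : Submodule A _)
      rw [Nat.add_sub_cancel_left, hk]
      exact zero_mem _
    | succ p =>
      obtain ⟨y, hy⟩ := hb
      obtain ⟨n', x, rfl⟩ := S.exists_Ω_eq y
      have hn : n ≤ max n n' := le_max_left _ _
      have hn' : n' ≤ max n n' := le_max_right _ _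
      obtain ⟨k, hk⟩ := S.exists_mul_eq_zero (n := max n n')
        (c := mul f (max n n' - n) (p + 1) c.1 -
          d (fun i => f i ^ max n n') p (mul f (max n n' - n') p x)) (by
          rw [map_sub, S.Ω_mul hn, Ω_d, S.Ω_mul hn', hy, sub_self])
      refine ⟨max n n' + k, hn.trans (Nat.le_add_right _ _), ?_⟩
      rw [trH_mk, Submodule.Quotient.mk_eq_zero]
      refine ⟨mul f (max n n' + k - n') p x, ?_⟩
      change _ = mul f _ (p + 1) c.1
      rw [map_sub, sub_eq_zero, mul_mul] at hk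
      conv at hk => rhs; rw [show k = max n n' + k - max n n' by omega]
      rw [← d_mul f (Nat.le_add_right _ k) p, mul_mul] at hk
      rw [show max n n' + k - n = k + (max n n' - n) by omega,
        show max n n' + k - n' = max n n' + k - max n n' + (max n n' - n') by omega, hk]
  · intro z
    obtain ⟨⟨y, hy⟩, rfl⟩ := Submodule.Quotient.mk_surjective _ z
    obtain ⟨n, c, rfl⟩ := S.exists_Ω_eq y
    obtain ⟨k, hk⟩ := S.exists_mul_eq_zero (n := n) (c := d (fun i => f i ^ n) p c)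
      (by rw [Ω_d]; exact hy)
    have hd : mul f k p c ∈ Z (fun i => f i ^ (n + k)) p := by
      rw [mem_Z]
      have := d_mul f (Nat.le_add_right n k) p c
      rw [Nat.add_sub_cancel_left] at this
      rw [this, hk]
    refine ⟨Module.DirectLimit.of A ℕ _ _ (n + k) (Submodule.Quotient.mk ⟨_, hd⟩), ?_⟩
    rw [toHQ, Module.DirectLimit.lift_of]
    refine congr_arg Submodule.Quotient.mk (Subtype.ext ?_)
    change S.Ω (n + k) p (mul f k p c) = S.Ω n p c
    conv_lhs => arg 2; rw [show k = n + k - n by omega]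
    rw [S.Ω_mul (Nat.le_add_right n k)]

end LimSys

/-- The colimit of Koszul cohomology is the cohomology of the localised family. -/
noncomputable def koszulLimEquiv (fs : List A) (M : ModuleCat.{u} A)
    {Q : ∀ p, (Fin p → Fin fs.length) → Type u} [∀ p J, AddCommGroup (Q p J)]
    [∀ p J, Module A (Q p J)] (S : LimSys fs.get M Q) (p : ℕ) :
    CohIII.koszulHLim fs M p ≃+ S.HQ p :=
  ((Module.DirectLimit.congr (fun n => (powEquiv M n fs p).symm) fun n m h => by
      refine LinearMap.ext fun y => ?_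
      obtain ⟨y, rfl⟩ := (powEquiv M n fs p).surjective y
      refine ((congr_arg (powEquiv M m fs p).symm (powEquiv_trH M h fs p y).symm).trans
        ((powEquiv M m fs p).symm_apply_apply _)).trans ?_
      exact congr_arg _ ((powEquiv M n fs p).symm_apply_apply y).symm).trans
    (LinearEquiv.ofBijective (S.toHQ p) (S.toHQ_bijective p))).toAddEquiv

end KoszLib
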