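import Groth.Prelude.Def_CohB1
import Groth.Agent.KoszLib.LimSys
import Groth.Agent.CechLib.Compare
import Groth.Agent.QCohLib.QcqsSections

/-!
# Sections of a quasi-coherent module over intersections of basic opens
-/

universe u

open CategoryTheory CategoryTheory.Limits TopologicalSpace Opposite AlgebraicGeometry

namespace KoszLib

variable {X : Scheme.{u}} (F : X.Modules)

/-- Sections over an open, as a module over the global functions. -/
def Sec (V : X.Opens) : Type u := Γ(F, V)

noncomputable instance (V : X.Opens) : AddCommGroup (Sec F V) := inferInstanceAs (AddCommGroup Γ(F, V))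

noncomputable instance secModuleΓ (V : X.Opens) : Module Γ(X, V) (Sec F V) :=
  inferInstanceAs (Module Γ(X, V) Γ(F, V))

/-- Restriction of global functions. -/
noncomputable def ρ (V : X.Opens) : Γ(X, ⊤) →+* Γ(X, V) :=
  (X.presheaf.map (homOfLE (le_top : V ≤ ⊤)).op).hom

noncomputable instance (V : X.Opens) : Module Γ(X, ⊤) (Sec F V) := Module.compHom _ (ρ V)

theorem smul_def (V : X.Opens) (a : Γ(X, ⊤)) (x : Sec F V) : a • x = ρ V a • x := rfl

/-- Restriction, linear over the global functions. -/
noncomputable def secRes {V V' : X.Opens} (h : V' ≤ V) : Sec F V →ₗ[Γ(X, ⊤)] Sec F V' where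
  toFun x := F.presheaf.map (homOfLE h).op (show Γ(F, V) from x)
  map_add' x y := map_add (F.presheaf.map (homOfLE h).op).hom (show Γ(F, V) from x) y
  map_smul' a x := by
    change F.presheaf.map (homOfLE h).op (ρ V a • (show Γ(F, V) from x)) =
      ρ V' a • F.presheaf.map (homOfLE h).op (show Γ(F, V) from x)
    rw [Scheme.Modules.map_smul]
    refine congrArg₂ _ ?_ rfl
    exact (QCohLib.ringMap_map' _ _ _).trans rfl

theorem secRes_secRes {V V' V'' : X.Opens} (h : V' ≤ V) (h' : V'' ≤ V') (x : Sec F V) :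
    secRes F h' (secRes F h x) = secRes F (h'.trans h) x :=
  CechLib.rs_rs F.presheaf h h' x

theorem secRes_self {V : X.Opens} (x : Sec F V) : secRes F (le_refl V) x = x :=
  CechLib.rs_self F.presheaf x

theorem ρ_top (a : Γ(X, ⊤)) : ρ (⊤ : X.Opens) a = a := by simp [ρ]

/-- Global sections. -/
noncomputable def ofTop : Γ(F, ⊤) →ₗ[Γ(X, ⊤)] Sec F ⊤ where
  toFun x := x
  map_add' _ _ := rfl
  map_smul' a x := by
    rw [RingHom.id_apply, smul_def, ρ_top]
    rfl

variable {r : ℕ} (g : Fin r → Γ(X, ⊤))

/-- The family of basic opens, indexed in the universe of `X`. -/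
abbrev Uf : ULift.{u} (Fin r) → X.Opens := fun i => X.basicOpen (g i.down)

/-- The intersection of the basic opens of a tuple. -/
abbrev capT {p : ℕ} (J : Fin p → Fin r) : X.Opens := CechLib.cap (Uf g) (ULift.up ∘ J)

/-- The product of the functions of a tuple. -/
noncomputable abbrev prodT {p : ℕ} (J : Fin p → Fin r) : Γ(X, ⊤) :=
  ∏ a ∈ img J, g a

theorem basicOpen_prod {κ : Type} [DecidableEq κ] (g : κ → Γ(X, ⊤)) (s : Finset κ) :
    X.basicOpen (∏ a ∈ s, g a) = s.inf fun a => X.basicOpen (g a) := by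
  induction s using Finset.induction_on with
  | empty => simp [X.basicOpen_of_isUnit isUnit_one]
  | insert a s ha ih => rw [Finset.prod_insert ha, X.basicOpen_mul, ih, Finset.inf_insert]

theorem capT_eq {p : ℕ} (J : Fin p → Fin r) : capT g J = X.basicOpen (prodT g J) := by
  rw [basicOpen_prod]
  refine le_antisymm (Finset.le_inf fun a ha => ?_) ((CechLib.le_cap_iff _).mpr fun k => ?_)
  · obtain ⟨k, rfl⟩ := mem_img.mp ha
    exact CechLib.cap_le (Uf g) (ULift.up ∘ J) k
  · exact Finset.inf_le (f := fun a => X.basicOpen (g a)) (mem_img.mpr ⟨k, rfl⟩)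

theorem isUnit_prodT {p : ℕ} (J : Fin p → Fin r) (n : ℕ) :
    IsUnit (ρ (capT g J) (prodT g J ^ n)) := by
  rw [map_pow]
  exact (QCohLib.isUnit_res (prodT g J) (capT_eq g J).le).pow n

/-- `x ↦ x / f_J ^ n`. -/
noncomputable def frac (n : ℕ) {p : ℕ} (J : Fin p → Fin r) :
    Γ(F, ⊤) →ₗ[Γ(X, ⊤)] Sec F (capT g J) where
  toFun x := (isUnit_prodT g J n).unit⁻¹.val • secRes F (le_top : capT g J ≤ ⊤) (ofTop F x)
  map_add' x y := by rw [map_add, map_add, smul_add]
  map_smul' a x := by
    rw [map_smul, map_smul, RingHom.id_apply, smul_def, smul_def, smul_comm]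

theorem smul_frac (n : ℕ) {p : ℕ} (J : Fin p → Fin r) (x : Γ(F, ⊤)) :
    (prodT g J ^ n) • frac F g n J x = secRes F (le_top : capT g J ≤ ⊤) (ofTop F x) := by
  rw [smul_def]
  exact (smul_smul _ _ _).trans ((congrArg₂ _ (IsUnit.mul_val_inv _) rfl).trans (one_smul _ _))

theorem eq_of_smul_eq {p : ℕ} {J : Fin p → Fin r} {n : ℕ} {y z : Sec F (capT g J)}
    (h : (prodT g J ^ n) • y = (prodT g J ^ n) • z) : y = z :=
  (isUnit_prodT g J n).smul_left_cancel.mp h

variable [CompactSpace X] [QuasiSeparatedSpace X] [Coh.IsQCoh F]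

theorem locPair (p : ℕ) (J : Fin p → Fin r) :
    QCohLib.LocPair F (prodT g J) ⊤ (capT g J) le_top le_rfl :=
  (QCohLib.locPair_congr rfl (capT_eq g J).symm).mp
    (QCohLib.localizingAt_of_qcqs F (W := ⊤) (by rw [Opens.coe_top]; exact isCompact_univ)
      (by rw [Opens.coe_top]; exact isQuasiSeparated_univ) _)

/-- The localised family of a quasi-coherent module. -/
noncomputable def sheafSys :
    LimSys g Γ(F, ⊤) (fun _ J => Sec F (capT g J)) where
  ψ n _ J := frac F g n J
  rs J k := secRes F (CechLib.cap_comp_le (Uf g) (ULift.up ∘ J) k.succAbove)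
  surj J y := by
    obtain ⟨n, t, ht⟩ := (locPair F g _ J).exists_extend y
    refine ⟨n, t, eq_of_smul_eq F g (n := n) ((smul_frac F g n J t).trans ?_)⟩
    rw [smul_def, map_pow]
    exact ht
  zero J n x h := by
    obtain ⟨k, hk⟩ := (locPair F g _ J).eq_zero x (by
      have := smul_frac F g n J x
      rw [h, smul_zero] at this
      exact this.symm)
    refine ⟨k, ?_⟩
    simpa using hk
  trans J n k x := by
    refine eq_of_smul_eq F g (n := n + k) ((smul_frac F g _ J _).trans ?_)
    rw [pow_add, mul_comm, mul_smul, smul_frac, map_smul, map_smul]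
  res J k n x := by
    refine eq_of_smul_eq F g (n := n) ((Eq.trans ?_ (smul_frac F g n J _).symm))
    have hp : prodT g J = W g (img J) (img (J ∘ k.succAbove)) * prodT g (J ∘ k.succAbove) :=
      (Finset.prod_sdiff (img_comp_subset J _)).symm
    rw [map_smul (ofTop F), map_smul (secRes F _), hp, mul_pow, mul_smul, ← map_smul (secRes F _),
      smul_frac, secRes_secRes]

end KoszLib
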