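import Groth.Agent.KoszLib.Homology
import Groth.Agent.CommAlgDim.Depth

/-!
# Vanishing and non-vanishing of Koszul cohomology
-/

universe u

open CategoryTheory CategoryTheory.Limits

namespace KoszLib

variable {A : Type u} [CommRing A] {r : ℕ}

/-- The weight of the homotopy for the `j`-th element. -/
def V (f : Fin r → A) (j : Fin r) (s : Finset (Fin r)) : A := if j ∈ s then f j else 1

theorem V_mul (f : Fin r → A) (j : Fin r) (s : Finset (Fin r)) :
    W f (insert j s) s * V f j s = f j := by
  by_cases hj : j ∈ s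
  · rw [Finset.insert_eq_of_mem hj, W_eq_one f subset_rfl, V, if_pos hj, one_mul]
  · simp [V, hj, W_insert_self f hj]

theorem W_mul_V (f : Fin r → A) (j : Fin r) {s t : Finset (Fin r)} (hts : t ⊆ s) :
    W f s t * V f j t = V f j s * W f (insert j s) (insert j t) := by
  by_cases hjt : j ∈ t
  · rw [V, if_pos hjt, V, if_pos (hts hjt), Finset.insert_eq_of_mem hjt,
      Finset.insert_eq_of_mem (hts hjt), mul_comm]
  · have e : W f (insert j t) t = f j := W_insert_self f hjt
    by_cases hjs : j ∈ s
    · rw [V, if_neg hjt, V, if_pos hjs, mul_one, Finset.insert_eq_of_mem hjs,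
        ← W_trans f (Finset.insert_subset hjs hts) (Finset.subset_insert j t), e, mul_comm]
    · rw [V, if_neg hjt, V, if_neg hjs, mul_one, one_mul, W, W]
      refine Finset.prod_congr ?_ fun _ _ => rfl
      ext y
      simp only [Finset.mem_sdiff, Finset.mem_insert]
      constructor
      · rintro ⟨hy, hy'⟩
        exact ⟨Or.inr hy, fun h => hjs (h.elim (fun e => e ▸ hy) fun h => absurd h hy')⟩
      · rintro ⟨hy | hy, hy'⟩
        · exact absurd (Or.inl hy) hy'
        · exact ⟨hy, fun h => hy' (Or.inr h)⟩

variable {M : Type u} [AddCommGroup M] [Module A M]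

/-- The homotopy killing the `j`-th element. -/
def hj (f : Fin r → A) (j : Fin r) (p : ℕ) : C M r (p + 1) →ₗ[A] C M r p where
  toFun c J := V f j (img J) • c (Fin.cons j J)
  map_add' c c' := by funext J; simp
  map_smul' a c := by funext J; simp [smul_comm a]

theorem hj_apply (f : Fin r → A) (j : Fin r) (p : ℕ) (c : C M r (p + 1)) (J : Fin p → Fin r) :
    hj f j p c J = V f j (img J) • c (Fin.cons j J) := rfl

theorem smul_mem_B (f : Fin r → A) (j : Fin r) : ∀ (p : ℕ) (c : C M r p), d f p c = 0 →
    f j • c ∈ B f p := by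
  intro p c hc
  have key : ∀ J : Fin p → Fin r, f j • c J +
      (∑ l : Fin p, V f j (img J) • (-1 : A) ^ ((l : ℕ) + 1) •
        W f (img (Fin.cons j J : Fin (p + 1) → Fin r))
          (img ((Fin.cons j J : Fin (p + 1) → Fin r) ∘ l.succ.succAbove)) •
          c ((Fin.cons j J : Fin (p + 1) → Fin r) ∘ l.succ.succAbove)) = 0 := fun J => by
    have h := congr_arg (V f j (img J) • ·) (congr_fun hc (Fin.cons j J))
    simp only [d_apply, Fin.sum_univ_succ, Pi.zero_apply, smul_zero, smul_add, Finset.smul_sum] at h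
    refine Eq.trans (congrArg₂ (· + ·) ?_ (Finset.sum_congr rfl fun l _ => ?_)) h
    · rw [cons_comp_succAbove_zero, img_cons, Fin.val_zero, pow_zero, one_mul, smul_smul,
        mul_comm (V f j (img J)), V_mul]
    · rw [Fin.val_succ, smul_smul ((-1 : A) ^ _)]
  cases p with
  | zero =>
    refine (Submodule.mem_bot _).mpr (funext fun J => ?_)
    simpa using key J
  | succ p =>
    refine ⟨hj f j p c, funext fun J => ?_⟩
    rw [d_apply, Pi.smul_apply, eq_neg_of_add_eq_zero_left (key J), ← Finset.sum_neg_distrib]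
    refine Finset.sum_congr rfl fun l _ => ?_
    rw [cons_comp_succAbove_succ, img_cons, img_cons, hj_apply, smul_smul, smul_smul, smul_smul,
      ← neg_smul, mul_assoc ((-1 : A) ^ (l : ℕ)), W_mul_V f j (img_comp_subset J _), pow_succ]
    congr 1
    ring

theorem smul_mem_B_of_mem_span (f : Fin r → A) {a : A} (ha : a ∈ Ideal.span (Set.range f))
    (p : ℕ) (c : C M r p) (hc : d f p c = 0) : a • c ∈ B f p := by
  induction ha using Submodule.span_induction with
  | mem x hx =>
    obtain ⟨j, rfl⟩ := hx
    exact smul_mem_B f j p c hc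
  | zero => rw [zero_smul]; exact zero_mem _
  | add x y _ _ hx hy => rw [add_smul]; exact add_mem hx hy
  | smul b x _ hx => rw [smul_eq_mul, mul_smul]; exact Submodule.smul_mem _ b hx

/-- Cohomology vanishes in degree `p`. -/
def Van (M : Type u) [AddCommGroup M] [Module A M] (f : Fin r → A) (p : ℕ) : Prop :=
  ∀ c : C M r p, d f p c = 0 → c ∈ B f p

theorem d_comp {N : Type u} [AddCommGroup N] [Module A N] (φ : M →ₗ[A] N) (f : Fin r → A) (p : ℕ)
    (c : C M r p) : d f p (φ ∘ c) = φ ∘ d f p c := by
  funext J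
  simp [d_apply, map_sum]

theorem van_zero_iff (f : Fin r → A) :
    Van M f 0 ↔ ∀ x : M, (∀ j, f j • x = 0) → x = 0 := by
  have hd : ∀ (c : C M r 0) (J : Fin 1 → Fin r), d f 0 c J = f (J 0) • c Fin.elim0 := fun c J => by
    rw [d_apply, Fin.sum_univ_succ, Fin.sum_univ_zero, add_zero, Fin.val_zero, pow_zero, one_mul,
      show J ∘ (0 : Fin 1).succAbove = Fin.elim0 from Subsingleton.elim _ _,
      show img J = insert (J 0) (img (Fin.elim0 : Fin 0 → Fin r)) by
        rw [img_eq_insert_succAbove J 0,
          show J ∘ (0 : Fin 1).succAbove = Fin.elim0 from Subsingleton.elim _ _],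
      W_insert_self f (by simp [mem_img])]
  constructor
  · intro h x hx
    exact congr_fun ((Submodule.mem_bot _).mp (h (fun _ => x) (funext fun J => by
      rw [hd]; exact hx _))) Fin.elim0
  · intro h c hc
    refine (Submodule.mem_bot _).mpr (funext fun J => ?_)
    rw [show J = Fin.elim0 from Subsingleton.elim _ _]
    exact h _ fun j => (hd c fun _ => j).symm.trans (congr_fun hc _)

variable (f : Fin r → A) {y : A} (hy : IsSMulRegular M y) {p : ℕ}

include hy in
theorem van_succ_of_van_quot (hyI : y ∈ Ideal.span (Set.range f))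
    (h : Van (QuotSMulTop y M) f p) : Van M f (p + 1) := by
  intro e he
  obtain ⟨c, hc⟩ := smul_mem_B_of_mem_span f hyI (p + 1) e he
  let π : M →ₗ[A] QuotSMulTop y M := Submodule.mkQ _
  have hπ : ∀ x : M, π (y • x) = 0 := fun x =>
    (Submodule.Quotient.mk_eq_zero _).mpr (Submodule.smul_mem_pointwise_smul x y ⊤ trivial)
  have hb := h (π ∘ c) (by
    rw [d_comp, hc]
    exact funext fun J => hπ _)
  cases p with
  | zero =>
    have h0 : ∀ J, ∃ x : M, y • x = c J := fun J => by
      have := congr_fun ((Submodule.mem_bot _).mp hb) J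
      obtain ⟨x, -, hx⟩ := (Submodule.mem_smul_pointwise_iff_exists _ _ _).mp
        ((Submodule.Quotient.mk_eq_zero _).mp this)
      exact ⟨x, hx⟩
    choose x hx using h0
    refine ⟨x, funext fun J => hy ?_⟩
    change y • d f 0 x J = y • e J
    rw [← Pi.smul_apply, ← map_smul, show y • x = c from funext hx, hc]
    rfl
  | succ p =>
    obtain ⟨zb, hz⟩ := hb
    choose z hz' using fun J => Submodule.mkQ_surjective _ (zb J)
    have hcz : ∀ J, ∃ x : M, y • x = c J - d f p z J := fun J => by
      have : π (c J - d f p z J) = 0 := by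
        rw [map_sub, sub_eq_zero]
        refine (congr_fun hz J).symm.trans (congr_fun (?_ : d f p zb = π ∘ d f p z) J)
        rw [← d_comp, show π ∘ z = zb from funext hz']
      obtain ⟨x, -, hx⟩ := (Submodule.mem_smul_pointwise_iff_exists _ _ _).mp
        ((Submodule.Quotient.mk_eq_zero _).mp this)
      exact ⟨x, hx⟩
    choose x hx using hcz
    refine ⟨x, funext fun J => hy ?_⟩
    change y • d f (p + 1) x J = y • e J
    rw [← Pi.smul_apply, ← map_smul, show y • x = c - d f p z from funext hx, map_sub, d_d,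
      sub_zero, hc]
    rfl

include hy in
theorem van_quot_of_van (h0 : Van M f p) (h : Van M f (p + 1)) : Van (QuotSMulTop y M) f p := by
  intro cb hcb
  let π : M →ₗ[A] QuotSMulTop y M := Submodule.mkQ _
  have hπ : ∀ x : M, π (y • x) = 0 := fun x =>
    (Submodule.Quotient.mk_eq_zero _).mpr (Submodule.smul_mem_pointwise_smul x y ⊤ trivial)
  choose c hc using fun J => Submodule.mkQ_surjective _ (cb J)
  have hce : ∀ J, ∃ e : M, y • e = d f p c J := fun J => by
    have : π (d f p c J) = 0 := by
      refine (congr_fun (d_comp π f p c) J).symm.trans ?_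
      rw [show π ∘ c = cb from funext hc, hcb]
      rfl
    obtain ⟨x, -, hx⟩ := (Submodule.mem_smul_pointwise_iff_exists _ _ _).mp
      ((Submodule.Quotient.mk_eq_zero _).mp this)
    exact ⟨x, hx⟩
  choose e he using hce
  have hde : d f (p + 1) e = 0 := funext fun J => hy (by
    change y • d f (p + 1) e J = y • (0 : M)
    rw [← Pi.smul_apply, ← map_smul, show y • e = d f p c from funext he, d_d, Pi.zero_apply,
      smul_zero])
  obtain ⟨x, hx⟩ := h e hde
  have hcyc : d f p (c - y • x) = 0 := by
    rw [map_sub, map_smul, hx, sub_eq_zero]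
    exact (funext he).symm
  have hb := h0 _ hcyc
  have hrw : cb = π ∘ (c - y • x) := funext fun J => by
    change cb J = π (c J - y • x J)
    rw [map_sub, hπ, sub_zero]
    exact (hc J).symm
  rw [hrw]
  cases p with
  | zero =>
    rw [(Submodule.mem_bot _).mp hb]
    exact (Submodule.mem_bot _).mpr (funext fun J => map_zero π)
  | succ p =>
    obtain ⟨w, hw⟩ := hb
    exact ⟨π ∘ w, by rw [d_comp, hw]⟩

omit hy in
theorem van_of_isWeaklyRegular : ∀ (rs : List A) (M : Type u) [AddCommGroup M] [Module A M],
    RingTheory.Sequence.IsWeaklyRegular M rs → (∀ a ∈ rs, a ∈ Ideal.span (Set.range f)) →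
      ∀ p < rs.length, Van M f p
  | [], _, _, _, _, _, p, hp => absurd hp (Nat.not_lt_zero p)
  | y :: rs, M, _, _, hreg, hmem, p, hp => by
    obtain ⟨hy, hrs⟩ := (RingTheory.Sequence.isWeaklyRegular_cons_iff M y rs).mp hreg
    cases p with
    | zero =>
      refine (van_zero_iff f).mpr fun x hx => hy (?_ : y • x = y • (0 : M))
      rw [smul_zero]
      have hk : Ideal.span (Set.range f) ≤ LinearMap.ker (LinearMap.toSpanSingleton A M x) :=
        Ideal.span_le.mpr (Set.range_subset_iff.mpr fun j => by
          simpa using hx j)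
      exact LinearMap.mem_ker.mp (hk (hmem y (List.mem_cons_self ..)))
    | succ p =>
      refine van_succ_of_van_quot f hy (hmem y (List.mem_cons_self ..))
        (van_of_isWeaklyRegular rs _ hrs (fun a ha => hmem a (List.mem_cons_of_mem _ ha)) p ?_)
      exact Nat.lt_of_succ_lt_succ hp

omit hy in
open CommAlgDim in
theorem not_van_of_depth_eq [IsNoetherianRing A] [IsLocalRing A]
    (hI : Ideal.span (Set.range f) ≤ IsLocalRing.maximalIdeal A) :
    ∀ (n : ℕ) (M : Type u) [AddCommGroup M] [Module A M] [Module.Finite A M] [Nontrivial M],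
      ¬ HasSeqIn (Ideal.span (Set.range f)) M (n + 1) → HasSeqIn (Ideal.span (Set.range f)) M n →
        ¬ Van M f n
  | 0, M, _, _, _, _, hno, _, hv => by
    refine hno ((hasSeqIn_one_iff _).mpr fun q hq hle => ?_)
    obtain ⟨hqp, x, rfl⟩ := isAssociatedPrime_iff.mp hq
    have hx0 : x = 0 := (van_zero_iff f).mp hv x fun j =>
      Submodule.mem_colon_singleton.mp (hle (Ideal.subset_span ⟨j, rfl⟩))
    subst hx0
    exact hqp.ne_top (by simp [Ideal.eq_top_iff_one, Submodule.mem_colon_singleton])
  | n + 1, M, _, _, _, _, hno, hyes, hv => by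
    obtain ⟨rs, hl, hm, hr⟩ := hyes
    obtain ⟨y, rs, rfl⟩ := List.exists_cons_of_ne_nil (show rs ≠ [] by intro e; simp [e] at hl)
    obtain ⟨hy, hrs⟩ := (RingTheory.Sequence.isWeaklyRegular_cons_iff M y rs).mp hr
    have hym : y ∈ Ideal.span (Set.range f) := hm y (List.mem_cons_self ..)
    have : Nontrivial (QuotSMulTop y M) :=
      nontrivial_quotSMulTop (hI hym)
    refine not_van_of_depth_eq hI n (QuotSMulTop y M)
      (fun h => hno (hasSeqIn_succ_of_cons hym hy h))
      ⟨rs, by simpa using hl, fun a ha => hm a (List.mem_cons_of_mem _ ha), hrs⟩ ?_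
    exact van_quot_of_van f hy
      (van_of_isWeaklyRegular f (y :: rs) M hr hm n (by rw [hl]; exact Nat.lt_succ_self n)) hv
where
  nontrivial_quotSMulTop {M : Type u} [AddCommGroup M] [Module A M] [Module.Finite A M]
      [Nontrivial M] {y : A} (hy : y ∈ IsLocalRing.maximalIdeal A) :
      Nontrivial (QuotSMulTop y M) := by
    refine Submodule.Quotient.nontrivial_iff.mpr fun h => ?_
    exact Submodule.top_ne_pointwise_smul_of_mem_jacobson_annihilator
      (IsLocalRing.maximalIdeal_le_jacobson _ hy) h.symm

end KoszLib
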